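import Mathlib
import Cfsg.Agent.Lib.Coprime.InvSylow
import Cfsg.Agent.Lib.Transfer.Frobenius

/-!
# Groups in which `p` divides every mixed proper subgroup: the basic context

`Ctx G p` records a finite group whose Sylow `2`-subgroup `Q` is elementary abelian of order `p + 1`
with a `p`-element `x` transitive on `Q#`, with abelian Sylow `p`-subgroups, and such that every
proper subgroup of even order that is not a `2`-group has order divisible by `p`; and a third prime.
-/

set_option autoImplicit false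

namespace Cfsg.Agent.Lib.Blocks.MixP

open Subgroup Cfsg.Agent.Lib.Coprime.InvSylow Cfsg.Agent.Lib.Coprime.Coset

universe u

/-- `y` has order a power of `p`. -/
def PElt {G : Type u} [Group G] (p : ℕ) (y : G) : Prop := ∃ k : ℕ, y ^ (p ^ k) = 1

/-- The context. -/
structure Ctx (G : Type u) [Group G] (p : ℕ) where
  hp : p.Prime
  hp2 : p ≠ 2
  hpG : p ∣ Nat.card G
  hF : ∀ H : Subgroup G, H ≠ ⊤ → ¬ IsPGroup 2 H → 2 ∣ Nat.card H → p ∣ Nat.card H
  hab : ∀ A : Subgroup G, IsPGroup p A → ∀ a ∈ A, ∀ b ∈ A, a * b = b * a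
  Q : Subgroup G
  hQ2 : IsPGroup 2 Q
  hQS : ¬ 2 ∣ Q.index
  hQe : ∀ e ∈ Q, e * e = 1
  hQc : Nat.card Q = p + 1
  x : G
  hxp : PElt p x
  hxN : ∀ e ∈ Q, x * e * x⁻¹ ∈ Q
  htr : ∀ u ∈ Q, ∀ v ∈ Q, u ≠ 1 → v ≠ 1 → ∃ i : ℕ, x ^ i * u * (x ^ i)⁻¹ = v
  r : ℕ
  hr : r.Prime
  hr2 : r ≠ 2
  hrp : r ≠ p
  hrG : r ∣ Nat.card G
  IH : ∀ H : Subgroup G, H ≠ ⊤ → Q ≤ H → p ∣ Nat.card H →
    ∀ l : ℕ, l.Prime → l ∣ Nat.card H → l = 2 ∨ l = p

variable {G : Type u} [Group G] [Finite G] {p : ℕ}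

section general

theorem PElt.conj {y : G} (h : PElt p y) (g : G) : PElt p (g * y * g⁻¹) := by
  obtain ⟨k, hk⟩ := h
  exact ⟨k, by rw [conj_pow, hk]; simp⟩

theorem PElt.pow {y : G} (h : PElt p y) (n : ℕ) : PElt p (y ^ n) := by
  obtain ⟨k, hk⟩ := h
  exact ⟨k, by rw [← pow_mul, mul_comm, pow_mul, hk, one_pow]⟩

theorem PElt.inv {y : G} (h : PElt p y) : PElt p y⁻¹ := by
  obtain ⟨k, hk⟩ := h
  exact ⟨k, by rw [inv_pow, hk, inv_one]⟩

theorem PElt.isPGroup {y : G} (h : PElt p y) : IsPGroup p (zpowers y) := by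
  obtain ⟨k, hk⟩ := h
  rintro ⟨_, n, rfl⟩
  refine ⟨k, ?_⟩
  ext
  simp only [SubmonoidClass.coe_pow, OneMemClass.coe_one]
  show (y ^ n) ^ p ^ k = 1
  rw [← zpow_natCast, ← zpow_mul, mul_comm, zpow_mul, zpow_natCast, hk, one_zpow]

theorem PElt.of_mem {A : Subgroup G} (hA : IsPGroup p A) {y : G} (hy : y ∈ A) : PElt p y := by
  obtain ⟨k, hk⟩ := hA ⟨y, hy⟩
  exact ⟨k, by simpa using congrArg Subtype.val hk⟩

theorem PElt.mul_of_commute {a b : G} (ha : PElt p a) (hb : PElt p b) (h : Commute a b) :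
    PElt p (a * b) := by
  obtain ⟨k, hk⟩ := ha
  obtain ⟨l, hl⟩ := hb
  refine ⟨k + l, ?_⟩
  rw [h.mul_pow, pow_add, pow_mul a, hk, one_pow, one_mul, mul_comm, pow_mul b, hl, one_pow]

theorem le_normalizer_of_conj {A B : Subgroup G} (h : ∀ b ∈ B, ∀ a ∈ A, b * a * b⁻¹ ∈ A) :
    B ≤ normalizer (A : Set G) := le_normalizer_of_forall_conj_mem h

theorem conj_mem_of_mem_normalizer {A : Subgroup G} {b a : G} (hb : b ∈ normalizer (A : Set G))
    (ha : a ∈ A) : b * a * b⁻¹ ∈ A := (mem_normalizer_iff.mp hb a).mp ha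

/-- If `B` normalizes `A` and `p` divides neither order, it does not divide `|A ⊔ B|`. -/
theorem not_dvd_card_sup [hp : Fact p.Prime] {A B : Subgroup G} (hBA : B ≤ normalizer (A : Set G))
    (hA : ¬ p ∣ Nat.card A) (hB : ¬ p ∣ Nat.card B) : ¬ p ∣ Nat.card (A ⊔ B : Subgroup G) := by
  intro hd
  obtain ⟨⟨y, hy⟩, hyo⟩ := exists_prime_orderOf_dvd_card' (G := ↥(A ⊔ B)) p hd
  have hyo' : orderOf y = p := by
    rw [← hyo, Subgroup.orderOf_mk]
  obtain ⟨a, ha, b, hb, rfl⟩ := (mem_sup_iff_of_le_normalizer hBA y).mp hy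
  -- powers of `a * b`
  have key : ∀ k : ℕ, ∃ a' ∈ A, (a * b) ^ k = a' * b ^ k := by
    intro k
    induction k with
    | zero => exact ⟨1, A.one_mem, by simp⟩
    | succ k ih =>
      obtain ⟨a', ha', e⟩ := ih
      have hbk : b ^ k ∈ B := B.pow_mem hb k
      refine ⟨a' * (b ^ k * a * (b ^ k)⁻¹), A.mul_mem ha' (conj_mem_of_mem_normalizer (hBA hbk) ha), ?_⟩
      rw [pow_succ, e, pow_succ]
      group
  obtain ⟨a', ha', e⟩ := key (Nat.card B)
  have hb1 : b ^ Nat.card B = 1 := by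
    have := congrArg Subtype.val (pow_card_eq_one' (x := (⟨b, hb⟩ : B)))
    rwa [SubgroupClass.coe_pow] at this
  rw [hb1, mul_one] at e
  have hcop : Nat.Coprime (Nat.card B) p := (Nat.Prime.coprime_iff_not_dvd hp.out).mpr hB |>.symm
  have ho : orderOf a' = p := by
    rw [← e, Nat.Coprime.orderOf_pow, hyo']
    rw [hyo']; exact hcop.symm
  apply hA
  rw [← ho]
  exact Subgroup.orderOf_dvd_natCard A ha'

/-- A subgroup without `p`-elements has order prime to `p`, and so on: Cauchy. -/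
theorem exists_mem_orderOf [hp : Fact p.Prime] {A : Subgroup G} (h : p ∣ Nat.card A) :
    ∃ y ∈ A, orderOf y = p := by
  obtain ⟨⟨y, hy⟩, hyo⟩ := exists_prime_orderOf_dvd_card' (G := ↥A) p h
  exact ⟨y, hy, by rw [← hyo, Subgroup.orderOf_mk]⟩

theorem card_eq_of_conj (A : Subgroup G) (g : G) :
    Nat.card (A.map (MulAut.conj g).toMonoidHom) = Nat.card A :=
  Subgroup.card_map_of_injective (MulAut.conj g).injective

theorem isP2_odd_bot {A : Subgroup G} (hA : IsPGroup 2 A) (h2 : ¬ 2 ∣ Nat.card A) : A = ⊥ := by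
  obtain ⟨k, hk⟩ := (IsPGroup.iff_card).mp hA
  have : k = 0 := by
    by_contra hk0
    apply h2
    rw [hk]
    exact dvd_pow_self 2 hk0
  subst this
  exact Subgroup.eq_bot_of_card_eq _ (by simpa using hk)

theorem orderOf_two {t : G} (htt : t * t = 1) (ht1 : t ≠ 1) : orderOf t = 2 :=
  orderOf_eq_prime (by rw [sq]; exact htt) ht1

theorem mem_map_conj {Q : Subgroup G} {h e : G} :
    e ∈ Q.map (MulAut.conj h).toMonoidHom ↔ h⁻¹ * e * h ∈ Q :=
  Cfsg.Agent.Lib.Transfer.Frobenius.mem_map_conj_iff Q h e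

end general

namespace Ctx

variable (C : Ctx G p)

include C

theorem fact_prime : Fact p.Prime := ⟨C.hp⟩

theorem Q_comm {e f : G} (he : e ∈ C.Q) (hf : f ∈ C.Q) : e * f = f * e := by
  have h1 := C.hQe _ (C.Q.mul_mem he hf)
  have h2 := C.hQe _ he
  have h3 := C.hQe _ hf
  calc e * f = e * f * (f * e * (f * e)⁻¹) := by simp
    _ = _ := by
      have h4 : (f * e)⁻¹ = f * e := by
        rw [inv_eq_iff_mul_eq_one]
        exact C.hQe _ (C.Q.mul_mem hf he)
      rw [h4]
      calc e * f * (f * e * (f * e)) = e * (f * f) * e * (f * e) := by group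
        _ = f * e := by rw [h3, mul_one, h2, one_mul]

theorem Q_inv {e : G} (he : e ∈ C.Q) : e⁻¹ = e := by
  rw [inv_eq_iff_mul_eq_one]; exact C.hQe _ he

theorem p_odd : Odd p := C.hp.odd_of_ne_two C.hp2

theorem p_ge : 3 ≤ p := by
  have := C.hp.two_le
  have := C.hp2
  omega

theorem card_Q_ge : 4 ≤ Nat.card C.Q := by
  rw [C.hQc]; have := p_ge C; omega

theorem two_dvd_card_Q : 2 ∣ Nat.card C.Q := by
  have := p_odd C
  rw [C.hQc]
  exact this.add_one.two_dvd

theorem exists_ne_one : ∃ t ∈ C.Q, t ≠ 1 := by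
  by_contra h
  push Not at h
  have : C.Q = ⊥ := by
    rw [eq_bot_iff]; intro e he; simpa using h e he
  have h2 := C.card_Q_ge
  rw [this] at h2
  simp at h2

/-- The second non-identity element. -/
theorem exists_two (t : G) : ∃ s ∈ C.Q, s ≠ 1 ∧ s ≠ t := by
  classical
  by_contra h
  push Not at h
  have hsub : ((C.Q : Set G)) ⊆ ({1, t} : Finset G) := by
    intro e he
    by_cases h1 : e = 1
    · simp [h1]
    · simp [h e he h1]
  have hle : Nat.card C.Q ≤ ({1, t} : Finset G).card := by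
    have := Set.ncard_le_ncard hsub (Finset.finite_toSet _)
    rw [Set.ncard_coe_finset] at this
    exact this
  have h2 := C.card_Q_ge
  have h3 : ({1, t} : Finset G).card ≤ 2 := Finset.card_le_two
  omega

/-- `Q` as a Sylow subgroup. -/
noncomputable def QS : Sylow 2 G := C.hQ2.toSylow C.hQS

theorem coe_QS : (C.QS : Subgroup G) = C.Q := IsPGroup.toSylow_coe _ _

theorem not_dvd_card_of_le {H : Subgroup G} (hH : C.Q ≤ H) : ¬ 2 ∣ C.Q.relIndex H := by
  intro h
  apply C.hQS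
  exact h.trans (Subgroup.relIndex_dvd_index_of_le hH)


theorem dich (H : Subgroup G) (h : ¬ p ∣ Nat.card H) : IsPGroup 2 H ∨ ¬ 2 ∣ Nat.card H := by
  by_contra hc
  push Not at hc
  obtain ⟨h1, h2⟩ := hc
  have hne : H ≠ ⊤ := by
    rintro rfl
    apply h
    rw [Subgroup.card_top]; exact C.hpG
  exact h (C.hF H hne h1 h2)

/-- Odd subgroups of order prime to `p` are not normalized by involutions. -/
theorem norm_odd {A : Subgroup G} (hA2 : ¬ 2 ∣ Nat.card A) (hAp : ¬ p ∣ Nat.card A) {t : G}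
    (htt : t * t = 1) (ht1 : t ≠ 1) (htA : t ∈ normalizer (A : Set G)) : A = ⊥ := by
  haveI := fact_prime C
  have hoT : orderOf t = 2 := orderOf_two htt ht1
  have hT : zpowers t ≤ normalizer (A : Set G) := (zpowers_le).mpr htA
  have hcT : Nat.card (zpowers t) = 2 := by rw [Nat.card_zpowers, hoT]
  have hpT : ¬ p ∣ Nat.card (zpowers t) := by
    rw [hcT]; intro h; exact C.hp2 ((Nat.prime_dvd_prime_iff_eq C.hp Nat.prime_two).mp h)
  have hH := not_dvd_card_sup hT hAp hpT
  rcases C.dich _ hH with h | h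
  · exact isP2_odd_bot (h.to_le le_sup_left) hA2
  · exfalso
    apply h
    rw [← hoT]
    exact Subgroup.orderOf_dvd_natCard _ ((le_sup_right : zpowers t ≤ A ⊔ zpowers t) (mem_zpowers t))

/-- An odd subgroup normalized by an involution is a `p`-group. -/
theorem isP_of_odd_norm {Y : Subgroup G} (hY : ¬ 2 ∣ Nat.card Y) {t : G}
    (htt : t * t = 1) (ht1 : t ≠ 1) (htY : t ∈ normalizer (Y : Set G)) : IsPGroup p Y := by
  have hall : ∀ l : ℕ, l.Prime → l ∣ Nat.card Y → l = p := by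
    intro l hl hd
    by_contra hne
    haveI := Fact.mk hl
    have hoT : orderOf t = 2 := orderOf_two htt ht1
    have hcop : (Nat.card (zpowers t)).Coprime (Nat.card Y) := by
      rw [Nat.card_zpowers, hoT]
      exact (Nat.Prime.coprime_iff_not_dvd Nat.prime_two).mpr hY
    obtain ⟨P, hP⟩ := exists_invariant_sylow (A := zpowers t) (K := Y) (zpowers_le.mpr htY) hcop
      (Or.inl (Group.isSolvable_of_comm (fun a b => by
        obtain ⟨_, m, rfl⟩ := a; obtain ⟨_, n, rfl⟩ := b; exact Subtype.ext (zpow_mul_comm t m n)))) l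
    have hcardR : Nat.card ((P : Subgroup Y).map Y.subtype) = Nat.card (P : Subgroup Y) :=
      Subgroup.card_map_of_injective Y.subtype_injective
    have hR1 : Nat.card (P : Subgroup Y) ∣ Nat.card Y := Subgroup.card_subgroup_dvd_card _
    have hR2 : ¬ 2 ∣ Nat.card ((P : Subgroup Y).map Y.subtype) := by
      rw [hcardR]; exact fun h => hY (h.trans hR1)
    have hR3 : ¬ p ∣ Nat.card ((P : Subgroup Y).map Y.subtype) := by
      rw [hcardR]
      intro h
      obtain ⟨k, hk⟩ := P.2.exists_card_eq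
      rw [hk] at h
      exact hne ((Nat.prime_dvd_prime_iff_eq C.hp hl).mp (C.hp.dvd_of_dvd_pow h)).symm
    have hbot := C.norm_odd hR2 hR3 htt ht1 (hP (mem_zpowers t))
    have h1 : (P : Subgroup Y) = ⊥ := by
      rw [eq_bot_iff]
      intro y hy
      have : (y : G) ∈ (P : Subgroup Y).map Y.subtype := ⟨y, hy, rfl⟩
      rw [hbot, Subgroup.mem_bot] at this
      exact Subgroup.mem_bot.mpr (Subtype.ext this)
    exact P.ne_bot_of_dvd_card hd h1
  exact IsPGroup.of_card (Nat.eq_prime_pow_of_unique_prime_dvd Nat.card_pos.ne'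
    (fun {d} hd hd2 => hall d hd hd2))

/-- All `2`-elements can be conjugated into `Q`. -/
theorem exists_conj_mem_Q {z : G} (hz : z * z = 1) : ∃ h : G, h * z * h⁻¹ ∈ C.Q := by
  have hP : PElt 2 z := ⟨1, by simpa [sq] using hz⟩
  obtain ⟨h, hh⟩ := Cfsg.Agent.Lib.Transfer.Frobenius.exists_conj_mem_of_isPGroup C.QS hP.isPGroup
  refine ⟨h, ?_⟩
  have := hh z (mem_zpowers z)
  rwa [coe_QS] at this

/-- Conjugating the context. -/
noncomputable def conj (h : G) : Ctx G p where
  hp := C.hp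
  hp2 := C.hp2
  hpG := C.hpG
  hF := C.hF
  hab := C.hab
  Q := C.Q.map (MulAut.conj h).toMonoidHom
  hQ2 := C.hQ2.map _
  hQS := by
    have h1 := Subgroup.card_mul_index C.Q
    have h2 := Subgroup.card_mul_index (C.Q.map (MulAut.conj h).toMonoidHom)
    rw [card_eq_of_conj, ← h1] at h2
    have h3 := Nat.eq_of_mul_eq_mul_left (Nat.card_pos) h2
    rw [h3]; exact C.hQS
  hQe := by
    intro e he
    have h1 := C.hQe _ (mem_map_conj.mp he)
    have : e * e = h * ((h⁻¹ * e * h) * (h⁻¹ * e * h)) * h⁻¹ := by group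
    rw [this, h1]; group
  hQc := by rw [card_eq_of_conj]; exact C.hQc
  x := h * C.x * h⁻¹
  hxp := C.hxp.conj h
  hxN := by
    intro e he
    rw [mem_map_conj]
    have h1 := C.hxN _ (mem_map_conj.mp he)
    convert h1 using 1
    group
  htr := by
    intro u hu v hv hu1 hv1
    obtain ⟨i, hi⟩ := C.htr _ (mem_map_conj.mp hu) _ (mem_map_conj.mp hv)
      (fun e => hu1 (by simpa [mul_assoc, inv_mul_eq_iff_eq_mul] using e))
      (fun e => hv1 (by simpa [mul_assoc, inv_mul_eq_iff_eq_mul] using e))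
    refine ⟨i, ?_⟩
    rw [conj_pow]
    have : v = h * (h⁻¹ * v * h) * h⁻¹ := by group
    rw [this, ← hi]
    group
  r := C.r
  hr := C.hr
  hr2 := C.hr2
  hrp := C.hrp
  hrG := C.hrG
  IH := by
    intro H hH hQH hpH l hl hlH
    have hne : H.map (MulAut.conj h⁻¹).toMonoidHom ≠ ⊤ := by
      intro e
      apply hH
      rw [eq_top_iff]
      intro g _
      have : h⁻¹ * g * h⁻¹⁻¹ ∈ H.map (MulAut.conj h⁻¹).toMonoidHom := by rw [e]; trivial
      rw [mem_map_conj] at this
      simpa [mul_assoc] using this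
    refine C.IH _ hne ?_ (by rw [card_eq_of_conj]; exact hpH) l hl (by rw [card_eq_of_conj]; exact hlH)
    intro e he
    rw [mem_map_conj]
    apply hQH
    rw [mem_map_conj]
    simpa [mul_assoc] using he

theorem mem_conj_Q {h e : G} : e ∈ (C.conj h).Q ↔ h⁻¹ * e * h ∈ C.Q := mem_map_conj

/-- A `p`-element normalizing `Q` and fixing a non-identity element centralizes `Q`. -/
theorem fix_cent {c t : G} (hc : PElt p c) (hcQ : ∀ e ∈ C.Q, c * e * c⁻¹ ∈ C.Q) (ht : t ∈ C.Q)
    (ht1 : t ≠ 1) (hct : c * t * c⁻¹ = t) : ∀ e ∈ C.Q, c * e * c⁻¹ = e := by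
  classical
  haveI := fact_prime C
  obtain ⟨k, hk⟩ := hc
  let f : Function.End C.Q := fun e => ⟨c * e * c⁻¹, hcQ e e.2⟩
  have hfpow : ∀ n : ℕ, ∀ e : C.Q, ((f ^ n) e : G) = c ^ n * e * (c ^ n)⁻¹ := by
    intro n
    induction n with
    | zero =>
      intro e
      rw [pow_zero]
      show (e : G) = _
      simp
    | succ n ih =>
      intro e
      rw [pow_succ]
      show (((f ^ n) (f e) : C.Q) : G) = _
      rw [ih]
      show c ^ n * (c * e * c⁻¹) * (c ^ n)⁻¹ = _
      rw [pow_succ]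
      group
  have hf : f ^ p ^ k = 1 := by
    funext e
    apply Subtype.ext
    rw [hfpow, hk]
    simp
    rfl
  haveI : Fintype C.Q := Fintype.ofFinite _
  have hmod := Equiv.Perm.card_fixedPoints_modEq hf
  have hcardQ : Fintype.card C.Q = p + 1 := by rw [← Nat.card_eq_fintype_card, C.hQc]
  rw [hcardQ] at hmod
  set F := Fintype.card (Function.fixedPoints f) with hF
  have hF2 : 1 < F := by
    rw [hF, Fintype.one_lt_card_iff]
    refine ⟨⟨1, ?_⟩, ⟨⟨t, ht⟩, ?_⟩, ?_⟩
    · apply Subtype.ext; simp [f]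
    · apply Subtype.ext; exact hct
    · intro h
      exact ht1 (congrArg (fun z : Function.fixedPoints f => ((z : C.Q) : G)) h).symm
  have hFle : F ≤ p + 1 := by
    rw [← hcardQ, hF]; exact Fintype.card_subtype_le _
  have hF3 : F = p + 1 := by
    have h1 : p ∣ (p + 1) - F := (Nat.modEq_iff_dvd' hFle).mp hmod.symm
    by_contra hne
    have hlt : F < p + 1 := lt_of_le_of_ne hFle hne
    have h2 : (p + 1) - F < p := by omega
    have h3 : 0 < (p + 1) - F := by omega
    exact absurd (Nat.le_of_dvd h3 h1) (by omega)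
  intro e he
  by_contra hne
  have hlt : Fintype.card (Function.fixedPoints f) < Fintype.card C.Q :=
    Fintype.card_subtype_lt (x := (⟨e, he⟩ : C.Q)) (fun hfix => hne (congrArg Subtype.val hfix))
  rw [hcardQ] at hlt
  omega

theorem hxP : ∀ e ∈ C.Q, ∀ i : ℕ, C.x ^ i * e * (C.x ^ i)⁻¹ ∈ C.Q := by
  intro e he i
  induction i with
  | zero => simpa using he
  | succ i ih =>
    have := C.hxN _ ih
    convert this using 1
    rw [pow_succ']
    group

/-- `x` moves every non-identity element of `Q`. -/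
theorem x_move {e : G} (he : e ∈ C.Q) (he1 : e ≠ 1) : C.x * e * C.x⁻¹ ≠ e := by
  intro hfix
  have hc := C.fix_cent C.hxp C.hxN he he1 hfix
  obtain ⟨s, hs, hs1, hse⟩ := C.exists_two e
  obtain ⟨i, hi⟩ := C.htr e he s hs he1 hs1
  have hpow : ∀ i : ℕ, C.x ^ i * e * (C.x ^ i)⁻¹ = e := by
    intro i
    induction i with
    | zero => simp
    | succ i ih =>
      calc C.x ^ (i + 1) * e * (C.x ^ (i + 1))⁻¹ = C.x * (C.x ^ i * e * (C.x ^ i)⁻¹) * C.x⁻¹ := by
            rw [pow_succ']; group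
        _ = e := by rw [ih, hfix]
  exact hse (by rw [← hi, hpow])

theorem x_ne_one : C.x ≠ 1 := by
  obtain ⟨t, ht, ht1⟩ := C.exists_ne_one
  intro h
  exact C.x_move ht ht1 (by simp [h])

/-- Every element of `Q` is a commutator with `x`. -/
theorem comm_gen {e : G} (he : e ∈ C.Q) : ∃ v ∈ C.Q, e = v * C.x * v⁻¹ * C.x⁻¹ := by
  let ψ : C.Q → C.Q := fun v => ⟨v * (C.x * v * C.x⁻¹), C.Q.mul_mem v.2 (C.hxN _ v.2)⟩
  have hinj : Function.Injective ψ := by
    rintro ⟨v, hv⟩ ⟨w, hw⟩ h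
    have h1 : v * (C.x * v * C.x⁻¹) = w * (C.x * w * C.x⁻¹) := congrArg Subtype.val h
    have hvw := C.Q.mul_mem hw hv
    by_contra hne
    have hne' : w * v ≠ 1 := by
      intro e1
      apply hne
      apply Subtype.ext
      show v = w
      have h2 : v = w⁻¹ := eq_inv_of_mul_eq_one_right e1
      rw [h2, C.Q_inv hw]
    apply C.x_move hvw hne'
    have hx1 := C.hxN v hv
    have hx2 := C.hxN w hw
    have e2 : C.x * (w * v) * C.x⁻¹ = (C.x * w * C.x⁻¹) * (C.x * v * C.x⁻¹) := by group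
    rw [e2]
    calc (C.x * w * C.x⁻¹) * (C.x * v * C.x⁻¹)
        = w * (w * (C.x * w * C.x⁻¹)) * (C.x * v * C.x⁻¹) := by
          rw [← mul_assoc w w, C.hQe w hw, one_mul]
      _ = w * (v * (C.x * v * C.x⁻¹)) * (C.x * v * C.x⁻¹) := by rw [h1]
      _ = w * v * ((C.x * v * C.x⁻¹) * (C.x * v * C.x⁻¹)) := by group
      _ = w * v := by rw [C.hQe _ hx1, mul_one]
  have hsurj := Finite.injective_iff_surjective.mp hinj
  obtain ⟨⟨v, hv⟩, hve⟩ := hsurj ⟨e, he⟩
  refine ⟨v, hv, ?_⟩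
  have h1 : v * (C.x * v * C.x⁻¹) = e := congrArg Subtype.val hve
  rw [← h1, C.Q_inv hv]
  group

/-- No element of order `r` normalizes `Q`. -/
theorem not_dvd_normalizer : ¬ C.r ∣ Nat.card (normalizer (C.Q : Set G)) := by
  intro hd
  haveI := fact_prime C
  haveI := Fact.mk C.hr
  obtain ⟨y, hy, hyo⟩ := exists_mem_orderOf hd
  have hT : zpowers y ≤ normalizer (C.Q : Set G) := zpowers_le.mpr hy
  have hQp : ¬ p ∣ Nat.card C.Q := by
    rw [C.hQc]
    intro h
    have := (Nat.dvd_add_right (dvd_refl p)).mp h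
    exact C.hp.one_lt.ne' (Nat.dvd_one.mp this)
  have hTp : ¬ p ∣ Nat.card (zpowers y) := by
    rw [Nat.card_zpowers, hyo]
    intro h
    exact C.hrp ((Nat.prime_dvd_prime_iff_eq C.hp C.hr).mp h).symm
  rcases C.dich _ (not_dvd_card_sup hT hQp hTp) with h | h
  · have hP := PElt.of_mem h ((le_sup_right : zpowers y ≤ C.Q ⊔ zpowers y) (mem_zpowers y))
    obtain ⟨k, hk⟩ := hP
    have : C.r ∣ 2 ^ k := by rw [← hyo]; exact orderOf_dvd_of_pow_eq_one hk
    exact C.hr2 ((Nat.prime_dvd_prime_iff_eq C.hr Nat.prime_two).mp (C.hr.dvd_of_dvd_pow this))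
  · apply h
    exact (C.two_dvd_card_Q).trans (Subgroup.card_dvd_of_le le_sup_left)

/-- `G` is perfect. -/
theorem perfect : commutator G = ⊤ := by
  by_contra hne
  haveI := fact_prime C
  haveI := Fact.mk C.hr
  set L : Subgroup G := commutator G with hL
  have hQL : C.Q ≤ L := by
    intro e he
    obtain ⟨v, _, rfl⟩ := C.comm_gen he
    exact Subgroup.commutator_mem_commutator (Subgroup.mem_top _) (Subgroup.mem_top _)
  have hrL : ¬ C.r ∣ Nat.card L := by
    intro hd
    by_cases hpL : p ∣ Nat.card L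
    · rcases C.IH L hne hQL hpL C.r C.hr hd with h | h
      · exact C.hr2 h
      · exact C.hrp h
    · rcases C.dich L hpL with h | h
      · obtain ⟨k, hk⟩ := (IsPGroup.iff_card).mp h
        rw [hk] at hd
        exact C.hr2 ((Nat.prime_dvd_prime_iff_eq C.hr Nat.prime_two).mp (C.hr.dvd_of_dvd_pow hd))
      · exact h ((C.two_dvd_card_Q).trans (Subgroup.card_dvd_of_le hQL))
  have hrI : C.r ∣ L.index := by
    have h1 := Subgroup.card_mul_index L
    have h2 : C.r ∣ Nat.card L * L.index := by rw [h1]; exact C.hrG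
    exact (C.hr.dvd_mul.mp h2).resolve_left hrL
  -- Frattini
  have hS1 : IsPGroup 2 (C.Q.subgroupOf L) := C.hQ2.comap_of_injective L.subtype L.subtype_injective
  have hS2 : ¬ 2 ∣ (C.Q.subgroupOf L).index := by
    exact C.not_dvd_card_of_le hQL
  have hmap : ((hS1.toSylow hS2 : Sylow 2 L) : Subgroup L).map L.subtype = C.Q := by
    rw [IsPGroup.toSylow_coe]
    exact Subgroup.map_subgroupOf_eq_of_le hQL
  have hsup := Sylow.normalizer_sup_eq_top (hS1.toSylow hS2 : Sylow 2 L)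
  rw [hmap] at hsup
  have hidx : L.index = L.relIndex (normalizer (C.Q : Set G)) := by
    rw [← Subgroup.relIndex_sup_right, hsup, Subgroup.relIndex_top_right]
  apply C.not_dvd_normalizer
  rw [hidx] at hrI
  exact hrI.trans (Subgroup.relIndex_dvd_card _ _)

end Ctx

end Cfsg.Agent.Lib.Blocks.MixP
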