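import Mathlib
import Cfsg.Agent.Lib.Blocks.MixP.Basic
import Cfsg.Agent.Lib.Transfer.Basic

/-!
# Structure of involution centralizers in the context `Ctx`
-/

set_option autoImplicit false

namespace Cfsg.Agent.Lib.Blocks.MixP

open Subgroup

universe u

variable {G : Type u} [Group G] [Finite G] {p : ℕ}

/-- The subgroup generated by the `p`-elements commuting with `t`. -/
def Ap (p : ℕ) (t : G) : Subgroup G := closure {y | Commute y t ∧ PElt p y}

/-- Normal complements from Burnside's transfer theorem, inside a subgroup `Y`. -/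
theorem exists_comp (Y S : Subgroup G) (hSY : S ≤ Y) (hS2 : IsPGroup 2 S) (hSS : ¬ 2 ∣ S.relIndex Y)
    (hN : ∀ n ∈ Y, (∀ e ∈ S, n * e * n⁻¹ ∈ S) → ∀ e ∈ S, n * e * n⁻¹ = e) :
    ∃ N₀ : Subgroup G, N₀ ≤ Y ∧ ¬ 2 ∣ Nat.card N₀ ∧ (∀ y ∈ Y, ∀ a ∈ N₀, y * a * y⁻¹ ∈ N₀) ∧
      (∀ y ∈ Y, ∃ a ∈ N₀, ∃ e ∈ S, y = a * e) ∧ (∀ y ∈ Y, ¬ 2 ∣ orderOf y → y ∈ N₀) := by
  classical
  have hS1 : IsPGroup 2 (S.subgroupOf Y) := hS2.comap_of_injective Y.subtype Y.subtype_injective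
  have hS3 : ¬ 2 ∣ (S.subgroupOf Y).index := hSS
  set P : Sylow 2 Y := hS1.toSylow hS3 with hP
  have hPc : (P : Subgroup Y) = S.subgroupOf Y := IsPGroup.toSylow_coe _ _
  have hPN : normalizer ((P : Subgroup Y) : Set Y) ≤ centralizer ((P : Subgroup Y) : Set Y) := by
    intro n hn
    rw [mem_centralizer_iff]
    rintro ⟨e, he⟩ hes
    have hes' : e ∈ S := by
      rw [SetLike.mem_coe, hPc, mem_subgroupOf] at hes
      exact hes
    have hconj : ∀ f ∈ S, (n : G) * f * (n : G)⁻¹ ∈ S := by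
      intro f hf
      have hf' : (⟨f, hSY hf⟩ : Y) ∈ (P : Subgroup Y) := by
        rw [hPc, mem_subgroupOf]; exact hf
      have := (mem_normalizer_iff.mp hn _).mp hf'
      rw [hPc, mem_subgroupOf] at this
      exact this
    have := hN n n.2 hconj e hes'
    apply Subtype.ext
    show e * (n : G) = (n : G) * e
    exact (mul_inv_eq_iff_eq_mul.mp this).symm
  obtain ⟨K, T, hKn, hc, hKT⟩ : ∃ (K : Subgroup Y) (T : Y →* (P : Subgroup Y)), K.Normal ∧
      K.IsComplement' (P : Subgroup Y) ∧ ∀ y, y ∈ K ↔ T y = 1 :=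
    ⟨_, MonoidHom.transferSylow P hPN, MonoidHom.normal_ker _,
      MonoidHom.ker_transferSylow_isComplement' P hPN, fun y => MonoidHom.mem_ker⟩
  refine ⟨K.map Y.subtype, ?_, ?_, ?_, ?_, ?_⟩
  · rintro _ ⟨k, _, rfl⟩
    exact k.2
  · rw [Subgroup.card_map_of_injective Y.subtype_injective, ← hc.index_eq_card]
    exact P.not_dvd_index
  · rintro y hy _ ⟨k, hk, rfl⟩
    refine ⟨⟨y, hy⟩ * k * (⟨y, hy⟩ : Y)⁻¹, hKn.conj_mem k hk _, ?_⟩
    simp
  · intro y hy
    obtain ⟨⟨⟨a, ha⟩, ⟨e, he⟩⟩, hae⟩ := hc.2 ⟨y, hy⟩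
    have he' : (e : G) ∈ S := by
      rw [SetLike.mem_coe, hPc, mem_subgroupOf] at he
      exact he
    refine ⟨a, ⟨a, ha, rfl⟩, e, he', ?_⟩
    exact (congrArg Subtype.val hae).symm
  · intro y hy hodd
    refine ⟨⟨y, hy⟩, ?_, rfl⟩
    show (⟨y, hy⟩ : Y) ∈ K
    rw [hKT]
    set T' := T ⟨y, hy⟩ with hTdef
    have h1 : T' ^ orderOf y = 1 := by
      rw [hTdef, ← map_pow]
      have : (⟨y, hy⟩ : Y) ^ orderOf y = 1 := by
        apply Subtype.ext; simpa using pow_orderOf_eq_one y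
      rw [this, map_one]
    obtain ⟨k, hk⟩ := P.2 T'
    have h2 : orderOf T' ∣ orderOf y := orderOf_dvd_of_pow_eq_one h1
    have h3 : orderOf T' ∣ 2 ^ k := orderOf_dvd_of_pow_eq_one hk
    have hcop : Nat.Coprime (orderOf y) (2 ^ k) :=
      Nat.Coprime.pow_right _ ((Nat.Prime.coprime_iff_not_dvd Nat.prime_two).mpr hodd).symm
    have h4 : orderOf T' = 1 := Nat.eq_one_of_dvd_coprimes hcop h2 h3
    exact orderOf_eq_one_iff.mp h4

theorem PElt.eq_one_of_sq [Fact p.Prime] (hp2 : p ≠ 2) {y : G} (hy : PElt p y) (h : y * y = 1) : y = 1 := by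
  obtain ⟨k, hk⟩ := hy
  have h1 : orderOf y ∣ p ^ k := orderOf_dvd_of_pow_eq_one hk
  have h2 : orderOf y ∣ 2 := orderOf_dvd_of_pow_eq_one (by rw [sq]; exact h)
  have hcop : Nat.Coprime (p ^ k) 2 := by
    apply Nat.Coprime.pow_left
    exact (Nat.coprime_primes Fact.out Nat.prime_two).mpr hp2
  exact orderOf_eq_one_iff.mp (Nat.eq_one_of_dvd_coprimes hcop h1 h2)

theorem PElt.not_two_dvd [Fact p.Prime] (hp2 : p ≠ 2) {y : G} (hy : PElt p y) : ¬ 2 ∣ orderOf y := by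
  obtain ⟨k, hk⟩ := hy
  intro h
  have h1 : orderOf y ∣ p ^ k := orderOf_dvd_of_pow_eq_one hk
  have := (Nat.prime_dvd_prime_iff_eq Nat.prime_two Fact.out).mp (Nat.Prime.dvd_of_dvd_pow Nat.prime_two (h.trans h1))
  exact hp2 this.symm

namespace Ctx

variable (C : Ctx G p)

include C

/-- Central `p`-elements are trivial. -/
theorem center_p {y : G} (hy : y ∈ center G) (hyp : PElt p y) : y = 1 := by
  classical
  haveI := fact_prime C
  obtain ⟨P₀, hP₀⟩ := hyp.isPGroup.exists_le_sylow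
  have hyP : y ∈ (P₀ : Subgroup G) := hP₀ (mem_zpowers y)
  letI cg : CommGroup (P₀ : Subgroup G) :=
    { (inferInstance : Group (P₀ : Subgroup G)) with
      mul_comm := fun a b => Subtype.ext (C.hab _ P₀.2 a a.2 b b.2) }
  let ϕ : (P₀ : Subgroup G) →* (P₀ : Subgroup G) :=
    { toFun := id, map_one' := rfl, map_mul' := fun _ _ => rfl }
  have h1 := Cfsg.Agent.Lib.Transfer.Basic.transfer_eq_pow_of_fusion (P₀ : Subgroup G) ϕ ⟨y, hyP⟩ (by
    intro k g₀ h
    apply Subtype.ext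
    show g₀⁻¹ * y ^ k * g₀ = y ^ k
    have hc := (mem_center_iff.mp ((center G).pow_mem hy k)) g₀⁻¹
    rw [hc]; group)
  have h2 : MonoidHom.transfer ϕ y = 1 :=
    Cfsg.Agent.Lib.Transfer.Basic.commutator_le_ker_transfer (P₀ : Subgroup G) ϕ
      (by rw [C.perfect]; trivial)
  have h3 : y ^ (P₀ : Subgroup G).index = 1 := by
    have : (ϕ ⟨y, hyP⟩) ^ (P₀ : Subgroup G).index = 1 := by rw [← h1]; exact h2
    simpa [ϕ] using congrArg Subtype.val this
  obtain ⟨k, hk⟩ := hyp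
  have h4 : orderOf y ∣ (P₀ : Subgroup G).index := orderOf_dvd_of_pow_eq_one h3
  have h5 : orderOf y ∣ p ^ k := orderOf_dvd_of_pow_eq_one hk
  have hcop : Nat.Coprime (P₀ : Subgroup G).index (p ^ k) :=
    Nat.Coprime.pow_right _ ((Nat.Prime.coprime_iff_not_dvd C.hp).mpr P₀.not_dvd_index).symm
  exact orderOf_eq_one_iff.mp (Nat.eq_one_of_dvd_coprimes hcop h4 h5)

/-- A proper subgroup containing `Q` and `x` normalizes `Q`. -/
theorem normal_of_le {H : Subgroup G} (hH : H ≠ ⊤) (hQH : C.Q ≤ H) (hxH : C.x ∈ H) {h : G}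
    (hh : h ∈ H) : ∀ e ∈ C.Q, h * e * h⁻¹ ∈ C.Q := by
  classical
  haveI := fact_prime C
  have hxo : p ∣ Nat.card H := by
    obtain ⟨k, hk⟩ := C.hxp
    have h1 : orderOf C.x ∣ p ^ k := orderOf_dvd_of_pow_eq_one hk
    obtain ⟨j, _, hj⟩ := (Nat.dvd_prime_pow C.hp).mp h1
    have hj0 : j ≠ 0 := by
      rintro rfl
      exact C.x_ne_one (orderOf_eq_one_iff.mp (by simpa using hj))
    have h2 : p ∣ orderOf C.x := by rw [hj]; exact dvd_pow_self p hj0
    exact h2.trans (Subgroup.orderOf_dvd_natCard H hxH)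
  have hprimes := C.IH H hH hQH hxo
  let x' : H := ⟨C.x, hxH⟩
  have hx'P : PElt p x' := by
    obtain ⟨k, hk⟩ := C.hxp
    exact ⟨k, Subtype.ext (by simpa [x'] using hk)⟩
  obtain ⟨P₂, hP₂⟩ := hx'P.isPGroup.exists_le_sylow
  have hxP₂ : x' ∈ (P₂ : Subgroup H) := hP₂ (mem_zpowers x')
  set Q' : Subgroup H := C.Q.subgroupOf H with hQ'
  have hcQ' : Nat.card Q' = Nat.card C.Q := Nat.card_congr (subgroupOfEquivOfLe hQH).toEquiv
  have hI2 : ¬ 2 ∣ Q'.index := C.not_dvd_card_of_le hQH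
  have hmul : Nat.card Q' * Q'.index = Nat.card H := Subgroup.card_mul_index Q'
  obtain ⟨c, hc⟩ : ∃ c : ℕ, Q'.index = p ^ c := by
    refine ⟨_, Nat.eq_prime_pow_of_unique_prime_dvd Subgroup.index_ne_zero_of_finite ?_⟩
    intro d hd hdI
    have hdH : d ∣ Nat.card H := by rw [← hmul]; exact hdI.trans (dvd_mul_left _ _)
    rcases hprimes d hd hdH with h2 | h2
    · subst h2; exact absurd hdI hI2
    · exact h2
  have hQp : ¬ p ∣ Nat.card C.Q := by
    rw [C.hQc]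
    intro h
    have := (Nat.dvd_add_right (dvd_refl p)).mp h
    exact C.hp.one_lt.ne' (Nat.dvd_one.mp this)
  have hcardP : Nat.card (P₂ : Subgroup H) = p ^ c := by
    rw [P₂.card_eq_multiplicity, ← hmul, hc, hcQ',
      Nat.factorization_mul (Nat.card_pos.ne') (pow_ne_zero _ C.hp.ne_zero),
      Finsupp.add_apply, Nat.factorization_eq_zero_of_not_dvd hQp, Nat.Prime.factorization_pow C.hp]
    simp
  have hcomp : IsComplement' (P₂ : Subgroup H) Q' := by
    apply Subgroup.isComplement'_of_coprime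
    · rw [hcardP, mul_comm, ← hc]; exact hmul
    · rw [hcardP, hcQ']
      exact Nat.Coprime.pow_left _ ((Nat.Prime.coprime_iff_not_dvd C.hp).mpr hQp)
  -- the key commutation
  have key : ∀ h' ∈ H, ∀ q ∈ C.Q, C.x * (h' * q * h'⁻¹) * C.x⁻¹ = h' * (C.x * q * C.x⁻¹) * h'⁻¹ := by
    intro h' hh' q hq
    obtain ⟨⟨⟨c', hc'⟩, ⟨e', he'⟩⟩, hce⟩ := hcomp.2 ⟨h', hh'⟩
    have he'' : (e' : G) ∈ C.Q := he'
    have hce' : (c' : G) * e' = h' := congrArg Subtype.val hce
    have hxc : C.x * (c' : G) = c' * C.x :=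
      congrArg Subtype.val (C.hab _ (P₂.2.map H.subtype) x'.1 ⟨x', hxP₂, rfl⟩ c' ⟨c', hc', rfl⟩ |>
        fun e => (Subtype.ext e : (⟨_, H.mul_mem hxH c'.2⟩ : H) = ⟨_, H.mul_mem c'.2 hxH⟩))
    have hq1 : (e' : G) * q * (e' : G)⁻¹ = q := by
      rw [C.Q_comm he'' hq]; group
    have hq2 : (e' : G) * (C.x * q * C.x⁻¹) * (e' : G)⁻¹ = C.x * q * C.x⁻¹ := by
      rw [C.Q_comm he'' (C.hxN q hq)]; group
    have e1 : h' * q * h'⁻¹ = c' * q * (c' : G)⁻¹ := by
      rw [← hce']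
      calc (c' : G) * e' * q * ((c' : G) * e')⁻¹ = c' * ((e' : G) * q * (e' : G)⁻¹) * (c' : G)⁻¹ := by group
        _ = _ := by rw [hq1]
    have e2 : h' * (C.x * q * C.x⁻¹) * h'⁻¹ = c' * (C.x * q * C.x⁻¹) * (c' : G)⁻¹ := by
      rw [← hce']
      calc (c' : G) * e' * (C.x * q * C.x⁻¹) * ((c' : G) * e')⁻¹
          = c' * ((e' : G) * (C.x * q * C.x⁻¹) * (e' : G)⁻¹) * (c' : G)⁻¹ := by group
        _ = _ := by rw [hq2]
    rw [e1, e2]
    have hxc' : C.x⁻¹ * (c' : G) = c' * C.x⁻¹ := by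
      rw [inv_mul_eq_iff_eq_mul, ← mul_assoc, hxc]; group
    calc C.x * ((c' : G) * q * (c' : G)⁻¹) * C.x⁻¹ = (C.x * c') * q * (C.x * c')⁻¹ * (C.x * C.x⁻¹) * (C.x) * C.x⁻¹ := by group
      _ = _ := by rw [hxc]; group
  -- `Q ≤ N(hQh⁻¹)`
  set C' := C.conj h with hC'
  have hsub : C.Q ≤ normalizer ((C'.Q : Subgroup G) : Set G) := by
    intro e he
    obtain ⟨v, hv, rfl⟩ := C.comm_gen he
    have hx1 : C.x ∈ normalizer ((C'.Q : Subgroup G) : Set G) := by
      apply Cfsg.Agent.Lib.Transfer.Frobenius.mem_normalizer_of_conj_mem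
      intro q hq
      obtain hq' := C.mem_conj_Q.mp hq
      rw [C.mem_conj_Q]
      have e1 : q = h * (h⁻¹ * q * h) * h⁻¹ := by group
      rw [e1, key h hh _ hq']
      have := C.hxN _ hq'
      simpa [mul_assoc] using this
    have hx2 : v * C.x * v⁻¹ ∈ normalizer ((C'.Q : Subgroup G) : Set G) := by
      apply Cfsg.Agent.Lib.Transfer.Frobenius.mem_normalizer_of_conj_mem
      intro q hq
      obtain hq' := C.mem_conj_Q.mp hq
      rw [C.mem_conj_Q]
      have hvH : v⁻¹ * h ∈ H := H.mul_mem (H.inv_mem (hQH hv)) hh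
      have e1 := key _ hvH _ hq'
      have e2 : v * C.x * v⁻¹ * q * (v * C.x * v⁻¹)⁻¹ =
          v * (C.x * ((v⁻¹ * h) * (h⁻¹ * q * h) * (v⁻¹ * h)⁻¹) * C.x⁻¹) * v⁻¹ := by group
      rw [e2, e1]
      have := C.hxN _ hq'
      simpa [mul_assoc] using this
    exact (normalizer _).mul_mem hx2 ((normalizer _).inv_mem hx1)
  have hle : C.Q ≤ C'.Q := by
    have h1 := C.hQ2.inf_normalizer_sylow C'.QS
    rw [C'.coe_QS, show ((C'.QS : Sylow 2 G) : Set G) = ((C'.Q : Subgroup G) : Set G) from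
      congrArg (fun K : Subgroup G => (K : Set G)) C'.coe_QS] at h1
    have h2 : C.Q ⊓ normalizer ((C'.Q : Subgroup G) : Set G) = C.Q := inf_eq_left.mpr hsub
    rw [h2] at h1
    exact inf_eq_left.mp h1.symm
  have heq : C.Q = C'.Q := Subgroup.eq_of_le_of_card_ge hle (by
    rw [C'.hQc, C.hQc])
  intro e he
  rw [heq, C.mem_conj_Q]
  simpa [mul_assoc] using he


/-- `n` normalizing `Q`, commuting with `t ∈ Q#`, centralizes `Q`. -/
theorem norm_cent {t n : G} (ht : t ∈ C.Q) (ht1 : t ≠ 1) (hnt : Commute n t)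
    (hn : ∀ e ∈ C.Q, n * e * n⁻¹ ∈ C.Q) : ∀ e ∈ C.Q, n * e * n⁻¹ = e := by
  classical
  haveI := fact_prime C
  haveI : Fact (Nat.Prime 2) := ⟨Nat.prime_two⟩
  obtain ⟨a, b, hab, hcomm, ha, hb, ⟨k, hk⟩, hbo⟩ :=
    Cfsg.Agent.Lib.Transfer.Basic.exists_pPart_decomp (p := 2) n
  have hnN : n ∈ normalizer (C.Q : Set G) :=
    Cfsg.Agent.Lib.Transfer.Frobenius.mem_normalizer_of_conj_mem hn
  -- `a ∈ Q`
  have haN : a ∈ normalizer (C.Q : Set G) := (zpowers_le.mpr hnN) ha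
  have haQ : a ∈ C.Q := by
    have hP : IsPGroup 2 (zpowers a) := PElt.isPGroup (p := 2) ⟨k, by
      rw [← hk]; exact pow_orderOf_eq_one a⟩
    have h1 := hP.inf_normalizer_sylow C.QS
    rw [C.coe_QS, show ((C.QS : Sylow 2 G) : Set G) = ((C.Q : Subgroup G) : Set G) from
      congrArg (fun K : Subgroup G => (K : Set G)) C.coe_QS] at h1
    have h2 : a ∈ zpowers a ⊓ normalizer (C.Q : Set G) := ⟨mem_zpowers a, haN⟩
    rw [h1] at h2
    exact h2.2
  have hbN : b ∈ normalizer (C.Q : Set G) := (zpowers_le.mpr hnN) hb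
  have hbt : Commute b t := by
    obtain ⟨i, rfl⟩ := hb
    exact (hnt.zpow_left i)
  -- `b` is a `p`-element
  have hb2 : ¬ 2 ∣ Nat.card (zpowers b) := by
    rw [Nat.card_zpowers]
    exact (Nat.Prime.coprime_iff_not_dvd Nat.prime_two).mp hbo.symm
  have hbP : IsPGroup p (zpowers b) := by
    refine C.isP_of_odd_norm hb2 (C.hQe t ht) ht1 ?_
    apply Cfsg.Agent.Lib.Transfer.Frobenius.mem_normalizer_of_conj_mem
    rintro _ ⟨i, rfl⟩
    refine ⟨i, ?_⟩
    show b ^ i = t * b ^ i * t⁻¹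
    have := (hbt.zpow_left i).eq
    rw [← this]
    group
  have hbE : PElt p b := PElt.of_mem hbP (mem_zpowers b)
  have hfix := C.fix_cent hbE (fun e he => conj_mem_of_mem_normalizer hbN he) ht ht1
    (by rw [hbt.eq]; group)
  intro e he
  rw [← hab]
  have h1 := hfix e he
  calc a * b * e * (a * b)⁻¹ = a * (b * e * b⁻¹) * a⁻¹ := by group
    _ = a * e * a⁻¹ := by rw [h1]
    _ = e := by rw [C.Q_comm haQ he]; group

/-- The structure of `C(t)`, `t ∈ Q#`. -/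
theorem exists_A {t : G} (ht : t ∈ C.Q) (ht1 : t ≠ 1) :
    ∃ A : Subgroup G, IsPGroup p A ∧ (∀ y, y ∈ A ↔ Commute y t ∧ PElt p y) ∧
      ∀ y, Commute y t → ∃ a ∈ A, ∃ e ∈ C.Q, y = a * e := by
  classical
  haveI := fact_prime C
  set Y : Subgroup G := centralizer ({t} : Set G) with hY
  have hmemY : ∀ y, y ∈ Y ↔ Commute y t := by
    intro y
    rw [hY, mem_centralizer_singleton_iff]
    exact Iff.rfl
  have hQY : C.Q ≤ Y := by
    intro e he
    rw [hmemY]
    exact C.Q_comm he ht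
  obtain ⟨N₀, h1, h2, h3, h4, h5⟩ := exists_comp Y C.Q hQY C.hQ2 (C.not_dvd_card_of_le hQY)
    (fun n hn hnQ => C.norm_cent ht ht1 ((hmemY n).mp hn) hnQ)
  have htY : t ∈ Y := hQY ht
  have hP : IsPGroup p N₀ := by
    refine C.isP_of_odd_norm h2 (C.hQe t ht) ht1 ?_
    exact Cfsg.Agent.Lib.Transfer.Frobenius.mem_normalizer_of_conj_mem (h3 t htY)
  refine ⟨N₀, hP, ?_, ?_⟩
  · intro y
    constructor
    · intro hy
      exact ⟨(hmemY y).mp (h1 hy), PElt.of_mem hP hy⟩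
    · rintro ⟨hy1, hy2⟩
      exact h5 y ((hmemY y).mpr hy1) (PElt.not_two_dvd C.hp2 hy2)
  · intro y hy
    exact h4 y ((hmemY y).mpr hy)

theorem Ap_eq {t : G} (ht : t ∈ C.Q) (ht1 : t ≠ 1) {A : Subgroup G}
    (hA : ∀ y, y ∈ A ↔ Commute y t ∧ PElt p y) : Ap p t = A := by
  have : {y | Commute y t ∧ PElt p y} = (A : Set G) := by
    ext y; exact (hA y).symm
  rw [Ap, this, Subgroup.closure_eq]

theorem mem_Ap {t : G} (ht : t ∈ C.Q) (ht1 : t ≠ 1) {y : G} :
    y ∈ Ap p t ↔ Commute y t ∧ PElt p y := by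
  obtain ⟨A, _, hA, _⟩ := C.exists_A ht ht1
  rw [C.Ap_eq ht ht1 hA]
  exact hA y

theorem isP_Ap {t : G} (ht : t ∈ C.Q) (ht1 : t ≠ 1) : IsPGroup p (Ap p t) := by
  obtain ⟨A, hP, hA, _⟩ := C.exists_A ht ht1
  rw [C.Ap_eq ht ht1 hA]
  exact hP

theorem Ap_comm {t a b : G} (ht : t ∈ C.Q) (ht1 : t ≠ 1) (ha : a ∈ Ap p t) (hb : b ∈ Ap p t) :
    a * b = b * a :=
  C.hab _ (C.isP_Ap ht ht1) a ha b hb

theorem comp_C {t y : G} (ht : t ∈ C.Q) (ht1 : t ≠ 1) (hy : Commute y t) :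
    ∃ a ∈ Ap p t, ∃ e ∈ C.Q, y = a * e := by
  obtain ⟨A, _, hA, h⟩ := C.exists_A ht ht1
  rw [C.Ap_eq ht ht1 hA]
  exact h y hy

/-- The orbit lemma. -/
theorem orbit_comm {c : G} (hc : PElt p c)
    (h : ∀ i j : ℕ, Commute (C.x ^ i * c * (C.x ^ i)⁻¹) (C.x ^ j * c * (C.x ^ j)⁻¹)) :
    Commute C.x c := by
  classical
  haveI := fact_prime C
  set orb : Set G := Set.range (fun i : ℕ => C.x ^ i * c * (C.x ^ i)⁻¹) with horb
  set F : Subgroup G := closure orb with hF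
  have hgen : ∀ a ∈ orb, ∀ b ∈ orb, a * b = b * a := by
    rintro _ ⟨i, rfl⟩ _ ⟨j, rfl⟩
    exact (h i j).eq
  have hcomm : ∀ a ∈ F, ∀ b ∈ F, a * b = b * a := by
    letI := Subgroup.closureCommGroupOfComm hgen
    intro a ha b hb
    exact congrArg Subtype.val (mul_comm (⟨a, ha⟩ : closure orb) ⟨b, hb⟩)
  obtain ⟨k, hk⟩ := hc
  have hpow : ∀ a ∈ F, a ^ (p ^ k) = 1 := by
    intro a ha
    induction ha using Subgroup.closure_induction with
    | mem a ha =>
      obtain ⟨i, rfl⟩ := ha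
      simp only
      rw [conj_pow, hk]; simp
    | one => simp
    | mul a b ha hb iha ihb =>
      rw [Commute.mul_pow (hcomm a ha b hb), iha, ihb, one_mul]
    | inv a _ iha => rw [inv_pow, iha, inv_one]
  have hFP : IsPGroup p F := by
    rintro ⟨a, ha⟩
    exact ⟨k, Subtype.ext (by simpa using hpow a ha)⟩
  have hxF : C.x ∈ normalizer (F : Set G) := by
    apply Cfsg.Agent.Lib.Transfer.Frobenius.mem_normalizer_of_conj_mem
    have hle : F ≤ F.comap (MulAut.conj C.x).toMonoidHom := by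
      rw [hF, Subgroup.closure_le]
      rintro _ ⟨i, rfl⟩
      show C.x * (C.x ^ i * c * (C.x ^ i)⁻¹) * C.x⁻¹ ∈ closure orb
      apply Subgroup.subset_closure
      refine ⟨i + 1, ?_⟩
      simp only
      rw [pow_succ']
      group
    intro a ha
    exact hle ha
  have hsup : IsPGroup p (zpowers C.x ⊔ F : Subgroup G) :=
    IsPGroup.to_sup_of_normal_right' C.hxp.isPGroup hFP (zpowers_le.mpr hxF)
  have hcF : c ∈ F := Subgroup.subset_closure ⟨0, by simp⟩
  exact C.hab _ hsup _ ((le_sup_left : zpowers C.x ≤ zpowers C.x ⊔ F) (mem_zpowers _)) _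
    ((le_sup_right : F ≤ zpowers C.x ⊔ F) hcF)

/-- `x^{-i}` also normalizes `Q`. -/
theorem xinv_mem {e : G} (he : e ∈ C.Q) (i : ℕ) : (C.x ^ i)⁻¹ * e * C.x ^ i ∈ C.Q := by
  have hx : C.x ∈ normalizer (C.Q : Set G) :=
    Cfsg.Agent.Lib.Transfer.Frobenius.mem_normalizer_of_conj_mem C.hxN
  have := conj_mem_of_mem_normalizer ((normalizer _).inv_mem ((normalizer _).pow_mem hx i)) he
  simpa using this

/-- If `[C(t)_p, Q] ≠ 1` for some `t`, then `|Q| = 4`. -/
theorem four_of_noncentral {t c s : G} (ht : t ∈ C.Q) (ht1 : t ≠ 1) (hc : c ∈ Ap p t) (hs : s ∈ C.Q)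
    (hne : s * c * s⁻¹ ≠ c) : Nat.card C.Q = 4 := by
  classical
  haveI := fact_prime C
  by_contra h4
  have hcard8 : 8 ≤ Nat.card C.Q := by
    obtain ⟨a, ha⟩ := (IsPGroup.iff_card).mp C.hQ2
    have hge := C.card_Q_ge
    rw [ha] at hge h4 ⊢
    have ha3 : 3 ≤ a := by
      by_contra hlt
      push Not at hlt
      interval_cases a <;> simp_all
    calc 8 = 2 ^ 3 := by norm_num
      _ ≤ 2 ^ a := Nat.pow_le_pow_right (by norm_num) ha3
  -- conjugates by `Q` stay in `Ap`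
  have hAconj : ∀ e ∈ C.Q, ∀ a ∈ Ap p t, e * a * e⁻¹ ∈ Ap p t := by
    intro e he a ha
    rw [C.mem_Ap ht ht1] at ha ⊢
    refine ⟨?_, ha.2.conj e⟩
    have het : Commute e t := C.Q_comm he ht
    have : Commute (e * a * e⁻¹) (e * t * e⁻¹) := by
      show e * a * e⁻¹ * (e * t * e⁻¹) = e * t * e⁻¹ * (e * a * e⁻¹)
      have h1 : a * t = t * a := ha.1.eq
      calc e * a * e⁻¹ * (e * t * e⁻¹) = e * (a * t) * e⁻¹ := by group
        _ = e * (t * a) * e⁻¹ := by rw [h1]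
        _ = _ := by group
    have h2 : e * t * e⁻¹ = t := by rw [het.eq]; group
    rwa [h2] at this
  have hAc : ∀ a ∈ Ap p t, ∀ b ∈ Ap p t, a * b = b * a := fun a ha b hb => C.Ap_comm ht ht1 ha hb
  -- eigenvector
  have heig : ∀ S : Finset G, (S : Set G) ⊆ C.Q → ∃ c' ∈ Ap p t, c' ≠ 1 ∧ s * c' * s⁻¹ = c'⁻¹ ∧
      ∀ e ∈ S, e * c' * e⁻¹ = c' ∨ e * c' * e⁻¹ = c'⁻¹ := by
    intro S
    induction S using Finset.induction_on with
    | empty =>
      intro _
      have hsc := hAconj s hs c hc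
      refine ⟨c * (s * c * s⁻¹)⁻¹, (Ap p t).mul_mem hc ((Ap p t).inv_mem hsc), ?_, ?_, by simp⟩
      · intro e
        exact hne (mul_inv_eq_one.mp e).symm
      · have h1 := C.hQe s hs
        have hsw : s * (s * c * s⁻¹) * s⁻¹ = c := by
          have e1 : s * (s * c * s⁻¹) * s⁻¹ = (s * s) * c * (s * s)⁻¹ := by group
          rw [e1, h1]; simp
        calc s * (c * (s * c * s⁻¹)⁻¹) * s⁻¹ = (s * c * s⁻¹) * (s * (s * c * s⁻¹) * s⁻¹)⁻¹ := by group
          _ = (s * c * s⁻¹) * c⁻¹ := by rw [hsw]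
          _ = (c * (s * c * s⁻¹)⁻¹)⁻¹ := by group
    | insert e S he ih =>
      intro hS
      have heQ : e ∈ C.Q := hS (by simp)
      obtain ⟨c', hc', hc1, hsc', hall⟩ := ih (fun z hz => hS (by simp [Finset.mem_coe.mp hz]))
      have hec := hAconj e heQ c' hc'
      by_cases hd : c' * (e * c' * e⁻¹) = 1
      · refine ⟨c', hc', hc1, hsc', ?_⟩
        intro f hf
        rcases Finset.mem_insert.mp hf with rfl | hf
        · right
          exact eq_inv_of_mul_eq_one_right hd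
        · exact hall f hf
      · set d := c' * (e * c' * e⁻¹) with hd'
        have hdA : d ∈ Ap p t := (Ap p t).mul_mem hc' hec
        -- conjugation formula
        have hconj : ∀ f ∈ C.Q, f * d * f⁻¹ = (f * c' * f⁻¹) * (e * (f * c' * f⁻¹) * e⁻¹) := by
          intro f hf
          have hfe : f * e = e * f := C.Q_comm hf heQ
          calc f * d * f⁻¹ = (f * c' * f⁻¹) * ((f * e) * c' * (f * e)⁻¹) := by rw [hd']; group
            _ = (f * c' * f⁻¹) * ((e * f) * c' * (e * f)⁻¹) := by rw [hfe]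
            _ = _ := by group
        have hdinv : (e * c'⁻¹ * e⁻¹) * c'⁻¹ = d⁻¹ := by
          rw [hd', mul_inv_rev]; group
        have hdinv' : c'⁻¹ * (e * c'⁻¹ * e⁻¹) = d⁻¹ := by
          rw [← hdinv]
          exact hAc _ ((Ap p t).inv_mem hc') _ (by
            have := hAconj e heQ _ ((Ap p t).inv_mem hc'); exact this)
        refine ⟨d, hdA, hd, ?_, ?_⟩
        · rw [hconj s hs, hsc']
          exact hdinv'
        · intro f hf
          rcases Finset.mem_insert.mp hf with rfl | hf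
          · left
            rw [hconj f heQ]
            have h1 := C.hQe f heQ
            have e1 : f * (f * c' * f⁻¹) * f⁻¹ = (f * f) * c' * (f * f)⁻¹ := by group
            rw [e1, h1, hd']
            simp only [one_mul, inv_one, mul_one]
            exact hAc _ hec _ hc'
          · rcases hall f hf with h1 | h1
            · left
              rw [hconj f (hS (by simp [hf])), h1]
            · right
              rw [hconj f (hS (by simp [hf])), h1]
              exact hdinv'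
  haveI : Fintype C.Q := Fintype.ofFinite _
  obtain ⟨c', hc', hc1, hsc', hall'⟩ := heig (Finset.univ.image (fun z : C.Q => (z : G))) (by
    intro z hz
    simp only [Finset.coe_image, Finset.coe_univ, Set.image_univ, Set.mem_range] at hz
    obtain ⟨w, rfl⟩ := hz
    exact w.2)
  have hall : ∀ e ∈ C.Q, e * c' * e⁻¹ = c' ∨ e * c' * e⁻¹ = c'⁻¹ := fun e he =>
    hall' e (Finset.mem_image.mpr ⟨⟨e, he⟩, Finset.mem_univ _, rfl⟩)
  have hc'P : PElt p c' := ((C.mem_Ap ht ht1).mp hc').2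
  have hc't : Commute c' t := ((C.mem_Ap ht ht1).mp hc').1
  have hs1 : s ≠ 1 := by
    rintro rfl
    simp at hne
  -- notation for the orbit
  let ci : ℕ → G := fun i => C.x ^ i * c' * (C.x ^ i)⁻¹
  have hciP : ∀ i, PElt p (ci i) := fun i => hc'P.conj _
  have hall_i : ∀ i, ∀ e ∈ C.Q, e * ci i * e⁻¹ = ci i ∨ e * ci i * e⁻¹ = (ci i)⁻¹ := by
    intro i e he
    have he' := C.xinv_mem he i
    have e1 : e * ci i * e⁻¹ = C.x ^ i * (((C.x ^ i)⁻¹ * e * C.x ^ i) * c' * ((C.x ^ i)⁻¹ * e * C.x ^ i)⁻¹) * (C.x ^ i)⁻¹ := by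
      simp only [ci]; group
    rcases hall _ he' with h1 | h1
    · left; rw [e1, h1]
    · right; rw [e1, h1]; simp only [ci]; group
  -- two commuting elements for `ci j`
  have hqi : ∀ i, ∀ f, Commute f c' → Commute (C.x ^ i * f * (C.x ^ i)⁻¹) (ci i) := by
    intro i f hf
    show C.x ^ i * f * (C.x ^ i)⁻¹ * (C.x ^ i * c' * (C.x ^ i)⁻¹) = C.x ^ i * c' * (C.x ^ i)⁻¹ * (C.x ^ i * f * (C.x ^ i)⁻¹)
    calc C.x ^ i * f * (C.x ^ i)⁻¹ * (C.x ^ i * c' * (C.x ^ i)⁻¹) = C.x ^ i * (f * c') * (C.x ^ i)⁻¹ := by group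
      _ = C.x ^ i * (c' * f) * (C.x ^ i)⁻¹ := by rw [hf.eq]
      _ = _ := by group
  have hinvert : ∀ i, ∀ f, f * c' * f⁻¹ = c'⁻¹ → (C.x ^ i * f * (C.x ^ i)⁻¹) * ci i * (C.x ^ i * f * (C.x ^ i)⁻¹)⁻¹ = (ci i)⁻¹ := by
    intro i f hf
    calc (C.x ^ i * f * (C.x ^ i)⁻¹) * ci i * (C.x ^ i * f * (C.x ^ i)⁻¹)⁻¹ = C.x ^ i * (f * c' * f⁻¹) * (C.x ^ i)⁻¹ := by
          simp only [ci]; group
      _ = _ := by rw [hf]; simp only [ci]; group
  have hnot_comm : ∀ a b : G, a ∈ C.Q → b ∈ C.Q → ∀ i, a * ci i * a⁻¹ = (ci i)⁻¹ → b * ci i * b⁻¹ = (ci i)⁻¹ → Commute (a * b) (ci i) := by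
    intro a b ha hb i h1 h2
    show a * b * ci i = ci i * (a * b)
    have e1 : a * b * ci i * (a * b)⁻¹ = ci i := by
      calc a * b * ci i * (a * b)⁻¹ = a * (b * ci i * b⁻¹) * a⁻¹ := by group
        _ = a * (ci i)⁻¹ * a⁻¹ := by rw [h2]
        _ = (a * ci i * a⁻¹)⁻¹ := by group
        _ = ci i := by rw [h1, inv_inv]
    exact mul_inv_eq_iff_eq_mul.mp e1
  have hpair : ∀ i j, Commute (ci i) (ci j) := by
    intro i j
    -- `t_j`, `s_j`
    set tj := C.x ^ j * t * (C.x ^ j)⁻¹ with htj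
    set sj := C.x ^ j * s * (C.x ^ j)⁻¹ with hsj
    have htjQ : tj ∈ C.Q := C.hxP t ht j
    have hsjQ : sj ∈ C.Q := C.hxP s hs j
    have htj1 : tj ≠ 1 := by
      rw [htj]; intro e; exact ht1 (by simpa using e)
    have hsj1 : sj ≠ 1 := by
      rw [hsj]; intro e; exact hs1 (by simpa using e)
    have htjc : Commute tj (ci j) := hqi j t hc't.symm
    have hsjc : sj * ci j * sj⁻¹ = (ci j)⁻¹ := hinvert j s hsc'
    -- an element outside `{1, t_j, s_j, s_j t_j}`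
    obtain ⟨e, he, he1⟩ : ∃ e ∈ C.Q, e ∉ ({1, tj, sj, sj * tj} : Finset G) := by
      by_contra hcon
      push Not at hcon
      have hsub : ((C.Q : Set G)) ⊆ (({1, tj, sj, sj * tj} : Finset G) : Set G) := fun z hz => hcon z hz
      have hle : Nat.card C.Q ≤ ({1, tj, sj, sj * tj} : Finset G).card := by
        have := Set.ncard_le_ncard hsub (Finset.finite_toSet _)
        rw [Set.ncard_coe_finset] at this
        exact this
      have h4' : ({1, tj, sj, sj * tj} : Finset G).card ≤ 4 := Finset.card_le_four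
      omega
    simp only [Finset.mem_insert, Finset.mem_singleton, not_or] at he1
    obtain ⟨he2, he3, he4, he5⟩ := he1
    -- a second nontrivial element commuting with `ci j`
    obtain ⟨b, hb, hb1, hbt, hbc⟩ : ∃ b ∈ C.Q, b ≠ 1 ∧ b ≠ tj ∧ Commute b (ci j) := by
      rcases hall_i j e he with h1 | h1
      · exact ⟨e, he, he2, he3, mul_inv_eq_iff_eq_mul.mp h1⟩
      · refine ⟨e * sj, C.Q.mul_mem he hsjQ, ?_, ?_, hnot_comm e sj he hsjQ j h1 hsjc⟩
        · intro h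
          apply he4
          have := eq_inv_of_mul_eq_one_left h
          rwa [C.Q_inv hsjQ] at this
        · intro h
          apply he5
          have h2 : e = tj * sj⁻¹ := eq_mul_inv_of_mul_eq h
          rw [h2, C.Q_inv hsjQ]
          exact C.Q_comm htjQ hsjQ
    -- now a common element
    obtain ⟨u, hu, hu1, hui, huj⟩ : ∃ u ∈ C.Q, u ≠ 1 ∧ Commute u (ci i) ∧ Commute u (ci j) := by
      rcases hall_i i tj htjQ with h1 | h1
      · exact ⟨tj, htjQ, htj1, mul_inv_eq_iff_eq_mul.mp h1, htjc⟩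
      · rcases hall_i i b hb with h2 | h2
        · exact ⟨b, hb, hb1, mul_inv_eq_iff_eq_mul.mp h2, hbc⟩
        · refine ⟨tj * b, C.Q.mul_mem htjQ hb, ?_, hnot_comm tj b htjQ hb i h1 h2, htjc.mul_left hbc⟩
          intro h
          apply hbt
          have := eq_inv_of_mul_eq_one_right h
          rwa [C.Q_inv htjQ] at this
    have hi' : ci i ∈ Ap p u := (C.mem_Ap hu hu1).mpr ⟨hui.symm, hciP i⟩
    have hj' : ci j ∈ Ap p u := (C.mem_Ap hu hu1).mpr ⟨huj.symm, hciP j⟩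
    exact C.Ap_comm hu hu1 hi' hj'
  have hxc : Commute C.x c' := C.orbit_comm hc'P hpair
  -- `x` commutes with `c'`, so all of `Q` does
  obtain ⟨i, hi⟩ := C.htr t ht s hs ht1 hs1
  have hci : ci i = c' := by
    simp only [ci]
    have := (hxc.pow_left i).eq
    rw [this]; group
  have hsc2 : Commute s c' := by
    have := hqi i t hc't.symm
    rwa [hi, hci] at this
  have : c' * c' = 1 := by
    have e1 : s * c' * s⁻¹ = c' := by rw [hsc2.eq]; group
    rw [e1] at hsc'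
    calc c' * c' = c' * c'⁻¹ := by rw [← hsc']
      _ = 1 := by group
  exact hc1 (PElt.eq_one_of_sq C.hp2 hc'P this)

end Ctx

end Cfsg.Agent.Lib.Blocks.MixP
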