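import Mathlib
import Cfsg.Agent.Lib.Blocks.MixP.Struct

/-!
# The TI case: `Q` centralizes all `p`-elements commuting with an involution of `Q`
-/

set_option autoImplicit false

namespace Cfsg.Agent.Lib.Blocks.MixP

open Subgroup

universe u

variable {G : Type u} [Group G] [Finite G] {p : ℕ}

namespace Ctx

variable (C : Ctx G p)

/-- The case: `Q` centralizes all `p`-elements commuting with a member of `Q#`. -/
def CaseI : Prop := ∀ t ∈ C.Q, t ≠ 1 → ∀ c ∈ Ap p t, ∀ e ∈ C.Q, e * c = c * e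

include C

theorem exists_conj_mem {z : G} (hz : z * z = 1) : ∃ h : G, z ∈ (C.conj h).Q := by
  obtain ⟨h, hh⟩ := C.exists_conj_mem_Q hz
  refine ⟨h⁻¹, ?_⟩
  rw [C.mem_conj_Q]
  simpa using hh

theorem caseI_conj (hI : C.CaseI) (h : G) : (C.conj h).CaseI := by
  intro t ht ht1 c hc e he
  have ht' := C.mem_conj_Q.mp ht
  have he' := C.mem_conj_Q.mp he
  have ht1' : h⁻¹ * t * h ≠ 1 := by
    intro e1
    apply ht1
    have : t = h * (h⁻¹ * t * h) * h⁻¹ := by group
    rw [this, e1]; group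
  obtain ⟨hc1, hc2⟩ := ((C.conj h).mem_Ap ht ht1).mp hc
  have hc' : h⁻¹ * c * h ∈ Ap p (h⁻¹ * t * h) := by
    rw [C.mem_Ap ht' ht1']
    refine ⟨?_, by simpa using hc2.conj h⁻¹⟩
    show h⁻¹ * c * h * (h⁻¹ * t * h) = h⁻¹ * t * h * (h⁻¹ * c * h)
    have e1 : c * t = t * c := hc1.eq
    calc h⁻¹ * c * h * (h⁻¹ * t * h) = h⁻¹ * (c * t) * h := by group
      _ = h⁻¹ * (t * c) * h := by rw [e1]
      _ = _ := by group
  have key := hI _ ht' ht1' _ hc' _ he'
  calc e * c = h * ((h⁻¹ * e * h) * (h⁻¹ * c * h)) * h⁻¹ := by group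
    _ = h * ((h⁻¹ * c * h) * (h⁻¹ * e * h)) * h⁻¹ := by rw [key]
    _ = c * e := by group

theorem eq_one_of_mem_Q {a : G} (ha : a ∈ C.Q) (hap : PElt p a) : a = 1 := by
  haveI := fact_prime C
  exact PElt.eq_one_of_sq C.hp2 hap (C.hQe a ha)

/-- 2-elements in the normalizer of a subgroup containing `Q` lie in the subgroup. -/
theorem mem_of_norm {Y : Subgroup G} (hQY : C.Q ≤ Y) {w : G} (hw : w ∈ normalizer (Y : Set G))
    (h2 : PElt 2 w) : w ∈ Y := by
  classical
  set N : Subgroup G := normalizer (Y : Set G) with hN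
  have hQN : C.Q ≤ N := hQY.trans Subgroup.le_normalizer
  have hS1 : IsPGroup 2 (C.Q.subgroupOf N) := C.hQ2.comap_of_injective N.subtype N.subtype_injective
  have hS2 : ¬ 2 ∣ (C.Q.subgroupOf N).index := C.not_dvd_card_of_le hQN
  let w' : N := ⟨w, hw⟩
  have hw' : PElt 2 w' := by
    obtain ⟨k, hk⟩ := h2
    exact ⟨k, Subtype.ext (by simpa [w'] using hk)⟩
  obtain ⟨y, hy⟩ := Cfsg.Agent.Lib.Transfer.Frobenius.exists_conj_mem_of_isPGroup
    (hS1.toSylow hS2) hw'.isPGroup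
  have h1 := hy w' (mem_zpowers w')
  rw [IsPGroup.toSylow_coe, mem_subgroupOf] at h1
  have h3 : (y : G) * w * (y : G)⁻¹ ∈ C.Q := by simpa [w'] using h1
  have h4 : (y : G) * w * (y : G)⁻¹ ∈ Y := hQY h3
  have h5 := conj_mem_of_mem_normalizer (N.inv_mem y.2) h4
  simpa [mul_assoc] using h5

/-- Elements centralizing a Sylow `2`-subgroup are not inverted by involutions. -/
theorem no_invert {y w : G} (hy : PElt p y) (hQ : ∀ e ∈ C.Q, e * y = y * e) (hw : w * w = 1)
    (hwy : w * y * w⁻¹ = y⁻¹) : y = 1 := by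
  classical
  haveI := fact_prime C
  set Y : Subgroup G := centralizer ({y} : Set G) with hY
  have hmem : ∀ c, c ∈ Y ↔ c * y = y * c := by
    intro c
    rw [hY, mem_centralizer_singleton_iff]
  have hQY : C.Q ≤ Y := fun e he => (hmem e).mpr (hQ e he)
  have hwN : w ∈ normalizer (Y : Set G) := by
    apply Cfsg.Agent.Lib.Transfer.Frobenius.mem_normalizer_of_conj_mem
    intro c hc
    rw [hmem] at hc ⊢
    have hcy : c * y⁻¹ = y⁻¹ * c := by
      rw [mul_inv_eq_iff_eq_mul, mul_assoc, hc]; group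
    have e1 : w * y⁻¹ * w⁻¹ = y := by
      have : w * y⁻¹ * w⁻¹ = (w * y * w⁻¹)⁻¹ := by group
      rw [this, hwy, inv_inv]
    rw [← e1]
    calc w * c * w⁻¹ * (w * y⁻¹ * w⁻¹) = w * (c * y⁻¹) * w⁻¹ := by group
      _ = w * (y⁻¹ * c) * w⁻¹ := by rw [hcy]
      _ = _ := by group
  have hw2 : PElt 2 w := ⟨1, by simpa [sq] using hw⟩
  have hwY := C.mem_of_norm hQY hwN hw2
  rw [hmem] at hwY
  have e2 : w * y * w⁻¹ = y := by rw [hwY]; group
  rw [e2] at hwy
  apply PElt.eq_one_of_sq C.hp2 hy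
  calc y * y = y * y⁻¹ := by rw [← hwy]
    _ = 1 := by group

theorem comm_of_pelt (hI : C.CaseI) {t y e : G} (ht : t ∈ C.Q) (ht1 : t ≠ 1) (hy : PElt p y)
    (hyt : Commute y t) (he : e ∈ C.Q) : e * y = y * e :=
  hI t ht ht1 y ((C.mem_Ap ht ht1).mpr ⟨hyt, hy⟩) e he

/-- Involutions commuting with `t ∈ Q#` lie in `Q`. -/
theorem invol_mem (hI : C.CaseI) {t z : G} (ht : t ∈ C.Q) (ht1 : t ≠ 1) (hzt : Commute z t)
    (hz : z * z = 1) : z ∈ C.Q := by
  haveI := fact_prime C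
  obtain ⟨a, ha, e, he, rfl⟩ := C.comp_C ht ht1 hzt
  have hae : e * a = a * e := hI t ht ht1 a ha e he
  have hap := ((C.mem_Ap ht ht1).mp ha).2
  have h1 : a * a = 1 := by
    have h2 := C.hQe e he
    calc a * a = a * a * (e * e) := by rw [h2, mul_one]
      _ = a * (a * e) * e := by group
      _ = a * (e * a) * e := by rw [hae]
      _ = a * e * (a * e) := by group
      _ = 1 := hz
  rw [PElt.eq_one_of_sq C.hp2 hap h1, one_mul]
  exact he

/-- `Q` is TI in the form: a non-identity element of `Q ∩ hQh⁻¹` forces `h ∈ N(Q)`. -/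
theorem ti (hI : C.CaseI) {a h : G} (ha : a ∈ C.Q) (ha1 : a ≠ 1) (hah : h⁻¹ * a * h ∈ C.Q) :
    ∀ e ∈ C.Q, h * e * h⁻¹ ∈ C.Q := by
  intro e he
  apply C.invol_mem hI ha ha1
  · show h * e * h⁻¹ * a = a * (h * e * h⁻¹)
    have h1 := C.Q_comm he hah
    calc h * e * h⁻¹ * a = h * (e * (h⁻¹ * a * h)) * h⁻¹ := by group
      _ = h * ((h⁻¹ * a * h) * e) * h⁻¹ := by rw [h1]
      _ = _ := by group
  · have h2 := C.hQe e he
    calc h * e * h⁻¹ * (h * e * h⁻¹) = h * (e * e) * h⁻¹ := by group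
      _ = 1 := by rw [h2]; group

/-- An element normalizing `Q` and inverted by `t ∈ Q` is trivial. -/
theorem inverted_norm {g t : G} (hg : PElt p g) (ht : t ∈ C.Q) (htg : t * g * t⁻¹ = g⁻¹)
    (hgQ : g * t * g⁻¹ ∈ C.Q) : g = 1 := by
  haveI := fact_prime C
  have h1 : g * t * g⁻¹ = g * g * t := by
    have : g⁻¹ = t * g * t⁻¹ := htg.symm
    rw [this]
    have h2 := C.hQe t ht
    have ht' : t⁻¹ = t := C.Q_inv ht
    rw [ht']
    calc g * t * (t * g * t) = g * (t * t) * g * t := by group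
      _ = g * g * t := by rw [h2, mul_one]
  rw [h1] at hgQ
  have h2 : g * g ∈ C.Q := by
    have := C.Q.mul_mem hgQ (C.Q.inv_mem ht)
    simpa using this
  have h3 : g * g = 1 := by
    have hp : PElt p (g * g) := by
      have := hg.pow 2
      rwa [sq] at this
    exact C.eq_one_of_mem_Q h2 hp
  exact PElt.eq_one_of_sq C.hp2 hg h3

/-- Elements of odd order inverted by an involution of the group generate a group without
involutions in their centralizers. -/
theorem centralizer_odd (hI : C.CaseI) {t g : G} (htt : t * t = 1) (hg : PElt p g) (hg1 : g ≠ 1)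
    (htg : t * g * t⁻¹ = g⁻¹) : ¬ 2 ∣ Nat.card (centralizer ({g} : Set G)) := by
  classical
  intro hd
  obtain ⟨z, hz, hzo⟩ := exists_mem_orderOf (p := 2) hd
  have hzz : z * z = 1 := by
    have := pow_orderOf_eq_one z
    rwa [hzo, sq] at this
  have hz1 : z ≠ 1 := by
    rintro rfl
    simp at hzo
  obtain ⟨h, hh⟩ := C.exists_conj_mem hzz
  have hcomm : g * z = z * g := by
    rw [mem_centralizer_singleton_iff] at hz
    exact hz.symm
  have hI' := C.caseI_conj hI h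
  have hq : ∀ e ∈ (C.conj h).Q, e * g = g * e :=
    fun e he => (C.conj h).comm_of_pelt hI' hh hz1 hg hcomm he
  exact hg1 ((C.conj h).no_invert hg hq htt htg)

/-- A `t`-invariant Sylow subgroup through `g`. -/
theorem exists_sylow (hI : C.CaseI) {t g : G} (htt : t * t = 1) (ht1 : t ≠ 1) (hg : PElt p g)
    (hg1 : g ≠ 1) (htg : t * g * t⁻¹ = g⁻¹) :
    ∃ P : Sylow p G, g ∈ (P : Subgroup G) ∧ t ∈ normalizer ((P : Subgroup G) : Set G) := by
  classical
  haveI := fact_prime C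
  have hodd := C.centralizer_odd hI htt hg hg1 htg
  set Y : Subgroup G := centralizer ({g} : Set G) with hY
  have hmem : ∀ c, c ∈ Y ↔ c * g = g * c := by
    intro c
    rw [hY, mem_centralizer_singleton_iff]
  have hgY : g ∈ Y := (hmem g).mpr rfl
  have htN : t ∈ normalizer (Y : Set G) := by
    apply Cfsg.Agent.Lib.Transfer.Frobenius.mem_normalizer_of_conj_mem
    intro c hc
    rw [hmem] at hc ⊢
    have ht' : t⁻¹ = t := by rw [inv_eq_iff_mul_eq_one]; exact htt
    have e0 : t * g⁻¹ * t⁻¹ = g := by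
      have : t * g⁻¹ * t⁻¹ = (t * g * t⁻¹)⁻¹ := by group
      rw [this, htg, inv_inv]
    have hcy : c * g⁻¹ = g⁻¹ * c := by
      rw [mul_inv_eq_iff_eq_mul, mul_assoc, hc]; group
    rw [← e0]
    calc t * c * t⁻¹ * (t * g⁻¹ * t⁻¹) = t * (c * g⁻¹) * t⁻¹ := by group
      _ = t * (g⁻¹ * c) * t⁻¹ := by rw [hcy]
      _ = _ := by group
  have hoT : orderOf t = 2 := orderOf_two htt ht1
  have hcop : (Nat.card (zpowers t)).Coprime (Nat.card Y) := by
    rw [Nat.card_zpowers, hoT]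
    exact (Nat.Prime.coprime_iff_not_dvd Nat.prime_two).mpr hodd
  obtain ⟨P, hP⟩ := Cfsg.Agent.Lib.Coprime.InvSylow.exists_invariant_sylow (A := zpowers t) (K := Y)
    (zpowers_le.mpr htN) hcop (Or.inl (Group.isSolvable_of_comm (fun a b => by
        obtain ⟨_, m, rfl⟩ := a; obtain ⟨_, n, rfl⟩ := b; exact Subtype.ext (zpow_mul_comm t m n)))) p
  set R : Subgroup G := (P : Subgroup Y).map Y.subtype with hR
  have hRP : IsPGroup p R := P.2.map _
  -- `g ∈ R`
  let g' : Y := ⟨g, hgY⟩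
  have hg'P : PElt p g' := by
    obtain ⟨k, hk⟩ := hg
    exact ⟨k, Subtype.ext (by simpa [g'] using hk)⟩
  have hgR : g ∈ R := by
    have hle : zpowers g' ≤ normalizer ((P : Subgroup Y) : Set Y) := by
      rw [zpowers_le]
      rw [mem_normalizer_iff]
      rintro ⟨c, hc⟩
      have hcomm : g' * ⟨c, hc⟩ = ⟨c, hc⟩ * g' :=
        Subtype.ext ((hmem c).mp hc).symm
      rw [hcomm]
      simp
    have h1 := hg'P.isPGroup.inf_normalizer_sylow P
    have h2 : g' ∈ zpowers g' ⊓ normalizer ((P : Sylow p Y) : Set Y) := ⟨mem_zpowers _, hle (mem_zpowers _)⟩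
    rw [h1] at h2
    exact ⟨g', h2.2, rfl⟩
  -- `R` is Sylow in `G`
  obtain ⟨S, hS⟩ := hg.isPGroup.exists_le_sylow
  have hSY : (S : Subgroup G) ≤ Y := by
    intro c hc
    rw [hmem]
    exact C.hab _ S.2 c hc g (hS (mem_zpowers g))
  have hcardS : Nat.card (S : Subgroup G) ≤ Nat.card R := by
    have h1 : IsPGroup p ((S : Subgroup G).subgroupOf Y) :=
      S.2.comap_of_injective Y.subtype Y.subtype_injective
    obtain ⟨P', hP'⟩ := h1.exists_le_sylow
    have hc1 : Nat.card ((S : Subgroup G).subgroupOf Y) = Nat.card (S : Subgroup G) :=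
      Nat.card_congr (subgroupOfEquivOfLe hSY).toEquiv
    have hc2 : Nat.card ((S : Subgroup G).subgroupOf Y) ≤ Nat.card (P' : Subgroup Y) :=
      Nat.card_le_card_of_injective _ (Subgroup.inclusion_injective hP')
    have hc3 : Nat.card (P' : Subgroup Y) = Nat.card (P : Subgroup Y) := by
      rw [Sylow.card_eq_multiplicity, Sylow.card_eq_multiplicity]
    have hc4 : Nat.card R = Nat.card (P : Subgroup Y) :=
      Subgroup.card_map_of_injective Y.subtype_injective
    omega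
  obtain ⟨S', hS'⟩ := hRP.exists_le_sylow
  have hRS : R = (S' : Subgroup G) := by
    apply Subgroup.eq_of_le_of_card_ge hS'
    have : Nat.card (S' : Subgroup G) = Nat.card (S : Subgroup G) := by
      rw [Sylow.card_eq_multiplicity, Sylow.card_eq_multiplicity]
    omega
  refine ⟨S', ?_, ?_⟩
  · rw [← hRS]; exact hgR
  · rw [← hRS]; exact hP (mem_zpowers t)

/-- `t` acts fixed point freely on a Sylow subgroup through an inverted element. -/
theorem fix_trivial (hI : C.CaseI) {t g y : G} (ht : t ∈ C.Q) (ht1 : t ≠ 1) (P : Sylow p G)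
    (hgP : g ∈ (P : Subgroup G)) (hg1 : g ≠ 1) (htg : t * g * t⁻¹ = g⁻¹)
    (hyP : y ∈ (P : Subgroup G)) (hyt : Commute y t) : y = 1 := by
  classical
  haveI := fact_prime C
  by_contra hy1
  have hyE : PElt p y := PElt.of_mem P.2 hyP
  have hgE : PElt p g := PElt.of_mem P.2 hgP
  have hyA : y ∈ Ap p t := (C.mem_Ap ht ht1).mpr ⟨hyt, hyE⟩
  -- `x` normalizes `Ap p t`
  have hconj : ∀ i : ℕ, C.x ^ i * y * (C.x ^ i)⁻¹ ∈ Ap p t := by
    intro i
    rw [C.mem_Ap ht ht1]
    refine ⟨?_, hyE.conj _⟩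
    have hte := C.xinv_mem ht i
    have e1 := C.comm_of_pelt hI ht ht1 hyE hyt hte
    show C.x ^ i * y * (C.x ^ i)⁻¹ * t = t * (C.x ^ i * y * (C.x ^ i)⁻¹)
    calc C.x ^ i * y * (C.x ^ i)⁻¹ * t = C.x ^ i * (y * ((C.x ^ i)⁻¹ * t * C.x ^ i)) * (C.x ^ i)⁻¹ := by group
      _ = C.x ^ i * (((C.x ^ i)⁻¹ * t * C.x ^ i) * y) * (C.x ^ i)⁻¹ := by rw [e1]
      _ = _ := by group
  have hxy : Commute C.x y := C.orbit_comm hyE (fun i j => C.Ap_comm ht ht1 (hconj i) (hconj j))
  set H : Subgroup G := centralizer ({y} : Set G) with hH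
  have hmem : ∀ c, c ∈ H ↔ c * y = y * c := by
    intro c
    rw [hH, mem_centralizer_singleton_iff]
  have hne : H ≠ ⊤ := by
    intro e
    apply hy1
    apply C.center_p _ hyE
    rw [mem_center_iff]
    intro c
    have : c ∈ H := by rw [e]; trivial
    exact (hmem c).mp this
  have hQH : C.Q ≤ H := fun e he => (hmem e).mpr (C.comm_of_pelt hI ht ht1 hyE hyt he)
  have hxH : C.x ∈ H := (hmem _).mpr hxy.eq
  have hgH : g ∈ H := (hmem g).mpr (C.hab _ P.2 g hgP y hyP)
  have := C.normal_of_le hne hQH hxH hgH t ht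
  exact hg1 (C.inverted_norm hgE ht htg this)

/-- `t` inverts the whole Sylow subgroup. -/
theorem inverts_all (hI : C.CaseI) {t g : G} (ht : t ∈ C.Q) (ht1 : t ≠ 1) (P : Sylow p G)
    (hgP : g ∈ (P : Subgroup G)) (hg1 : g ≠ 1) (htg : t * g * t⁻¹ = g⁻¹)
    (htP : t ∈ normalizer ((P : Subgroup G) : Set G)) {c : G} (hc : c ∈ (P : Subgroup G)) :
    t * c * t⁻¹ = c⁻¹ := by
  have htc := conj_mem_of_mem_normalizer htP hc
  have htt := C.hQe t ht
  have hfix : t * (c * (t * c * t⁻¹)) * t⁻¹ = c * (t * c * t⁻¹) := by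
    have h1 := C.hab _ P.2 _ htc _ hc
    have e1 : t * (c * (t * c * t⁻¹)) * t⁻¹ = (t * c * t⁻¹) * ((t * t) * c * (t * t)⁻¹) := by group
    rw [e1, htt]
    simp only [one_mul, inv_one, mul_one]
    exact h1
  have hcomm : Commute (c * (t * c * t⁻¹)) t := (mul_inv_eq_iff_eq_mul.mp hfix).symm
  have h0 := C.fix_trivial hI ht ht1 P hgP hg1 htg ((P : Subgroup G).mul_mem hc htc) hcomm
  exact eq_inv_of_mul_eq_one_right h0

/-- Products of an involution in `Q` with one outside are nontrivial `p`-elements. -/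
theorem prod_pelt (hI : C.CaseI) {t u : G} (ht : t ∈ C.Q) (ht1 : t ≠ 1) (hu : u * u = 1)
    (huQ : u ∉ C.Q) : PElt p (t * u) ∧ t * u ≠ 1 ∧ t * (t * u) * t⁻¹ = (t * u)⁻¹ := by
  classical
  haveI := fact_prime C
  have htt := C.hQe t ht
  have ht' : t⁻¹ = t := C.Q_inv ht
  have hu' : u⁻¹ = u := by rw [inv_eq_iff_mul_eq_one]; exact hu
  have hinv : t * (t * u) * t⁻¹ = (t * u)⁻¹ := by
    rw [mul_inv_rev, ht', hu', ← mul_assoc, htt, one_mul]
  have hinvu : u * (t * u) * u⁻¹ = (t * u)⁻¹ := by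
    have e1 : (t * u)⁻¹ = u * t := by rw [mul_inv_rev, ht', hu']
    rw [e1]
    group
  have hne : t * u ≠ 1 := by
    intro e
    have : u = t⁻¹ := eq_inv_of_mul_eq_one_right e
    apply huQ
    rw [this]
    exact C.Q.inv_mem ht
  refine ⟨?_, hne, hinv⟩
  set g := t * u with hg
  have hodd : ¬ 2 ∣ orderOf g := by
    rintro ⟨k, hk⟩
    have hpos : 0 < orderOf g := orderOf_pos g
    have hk0 : k ≠ 0 := by rintro rfl; omega
    have hz1 : g ^ k ≠ 1 := by
      intro e
      have := orderOf_le_of_pow_eq_one (Nat.pos_of_ne_zero hk0) e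
      omega
    have hzz : g ^ k * g ^ k = 1 := by
      rw [← pow_add, ← two_mul, ← hk, pow_orderOf_eq_one]
    have hgen : ∀ w : G, w * g * w⁻¹ = g⁻¹ → Commute (g ^ k) w := by
      intro w hw
      have e1 : w * g ^ k * w⁻¹ = (g ^ k)⁻¹ := by rw [← conj_pow, hw, inv_pow]
      have e2 : (g ^ k)⁻¹ = g ^ k := by
        rw [inv_eq_iff_mul_eq_one]; exact hzz
      rw [e2] at e1
      exact (mul_inv_eq_iff_eq_mul.mp e1).symm
    have hzt := hgen t hinv
    have hzu := hgen u hinvu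
    have hzQ := C.invol_mem hI ht ht1 hzt hzz
    exact huQ (C.invol_mem hI hzQ hz1 hzu.symm hu)
  have h2 : ¬ 2 ∣ Nat.card (zpowers g) := by rwa [Nat.card_zpowers]
  have hP : IsPGroup p (zpowers g) := by
    refine C.isP_of_odd_norm h2 htt ht1 ?_
    apply Cfsg.Agent.Lib.Transfer.Frobenius.mem_normalizer_of_conj_mem
    rintro _ ⟨i, rfl⟩
    refine ⟨-i, ?_⟩
    show g ^ (-i) = t * g ^ i * t⁻¹
    rw [← conj_zpow, hinv, inv_zpow, zpow_neg]
  exact PElt.of_mem hP (mem_zpowers g)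

/-- There is an involution outside `Q`. -/
theorem exists_outside : ∃ u : G, u * u = 1 ∧ u ∉ C.Q := by
  by_contra hcon
  push Not at hcon
  apply C.not_dvd_normalizer
  have htop : normalizer (C.Q : Set G) = ⊤ := by
    rw [eq_top_iff]
    intro g _
    apply Cfsg.Agent.Lib.Transfer.Frobenius.mem_normalizer_of_conj_mem
    intro e he
    apply hcon
    have h2 := C.hQe e he
    calc g * e * g⁻¹ * (g * e * g⁻¹) = g * (e * e) * g⁻¹ := by group
      _ = 1 := by rw [h2]; group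
  rw [htop, Subgroup.card_top]
  exact C.hrG

/-- The key datum: a Sylow subgroup inverted by `t`. -/
theorem exists_inverted (hI : C.CaseI) {t : G} (ht : t ∈ C.Q) (ht1 : t ≠ 1) :
    ∃ P : Sylow p G, t ∈ normalizer ((P : Subgroup G) : Set G) ∧ (P : Subgroup G) ≠ ⊥ ∧
      ∀ c ∈ (P : Subgroup G), t * c * t⁻¹ = c⁻¹ := by
  obtain ⟨u, hu, huQ⟩ := C.exists_outside
  obtain ⟨h1, h2, h3⟩ := C.prod_pelt hI ht ht1 hu huQ
  obtain ⟨P, hP1, hP2⟩ := C.exists_sylow hI (C.hQe t ht) ht1 h1 h2 h3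
  refine ⟨P, hP2, ?_, fun c hc => C.inverts_all hI ht ht1 P hP1 h2 h3 hP2 hc⟩
  intro e
  rw [e] at hP1
  exact h2 (Subgroup.mem_bot.mp hP1)

/-- In the case `CaseI`, `C(t) = Q`. -/
theorem Ap_trivial (hI : C.CaseI) {t y : G} (ht : t ∈ C.Q) (ht1 : t ≠ 1) (hy : y ∈ Ap p t) : y = 1 := by
  classical
  haveI := fact_prime C
  obtain ⟨hy1, hy2⟩ := (C.mem_Ap ht ht1).mp hy
  obtain ⟨P, hP1, hP2, hP3⟩ := C.exists_inverted hI ht ht1
  obtain ⟨S, hS⟩ := hy2.isPGroup.exists_le_sylow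
  obtain ⟨h, hh⟩ := MulAction.exists_smul_eq G P S
  have hyS : y ∈ (S : Subgroup G) := hS (mem_zpowers y)
  rw [← hh, Sylow.coe_subgroup_smul, Subgroup.mem_smul_pointwise_iff_exists] at hyS
  obtain ⟨c, hc, rfl⟩ := hyS
  set w := h * t * h⁻¹ with hw
  have hww : w * w = 1 := by
    have h2 := C.hQe t ht
    calc w * w = h * (t * t) * h⁻¹ := by rw [hw]; group
      _ = 1 := by rw [h2]; group
  have hinv : w * (MulAut.conj h • c) * w⁻¹ = (MulAut.conj h • c)⁻¹ := by
    have := hP3 c hc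
    show w * (h * c * h⁻¹) * w⁻¹ = (h * c * h⁻¹)⁻¹
    calc w * (h * c * h⁻¹) * w⁻¹ = h * (t * c * t⁻¹) * h⁻¹ := by rw [hw]; group
      _ = _ := by rw [this]; group
  exact C.no_invert hy2 (fun e he => C.comm_of_pelt hI ht ht1 hy2 hy1 he) hww hinv

theorem cent_t (hI : C.CaseI) {t y : G} (ht : t ∈ C.Q) (ht1 : t ≠ 1) (hy : Commute y t) : y ∈ C.Q := by
  obtain ⟨a, ha, e, he, rfl⟩ := C.comp_C ht ht1 hy
  rw [C.Ap_trivial hI ht ht1 ha, one_mul]
  exact he

/-- The centralizer of the inverted Sylow subgroup is itself. -/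
theorem invert_norm (hI : C.CaseI) {t : G} (ht : t ∈ C.Q) (ht1 : t ≠ 1) (P : Sylow p G)
    (hP1 : t ∈ normalizer ((P : Subgroup G) : Set G)) (hP2 : (P : Subgroup G) ≠ ⊥)
    (hP3 : ∀ c ∈ (P : Subgroup G), t * c * t⁻¹ = c⁻¹) {v : G} (hv : v * v = 1) (hv1 : v ≠ 1)
    (hvN : v ∈ normalizer ((P : Subgroup G) : Set G)) : ∃ c ∈ (P : Subgroup G), v = c * t := by
  classical
  haveI := fact_prime C
  obtain ⟨h, hh⟩ := C.exists_conj_mem hv
  have hI' := C.caseI_conj hI h
  have ht2 := C.hQe t ht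
  have ht' : t⁻¹ = t := C.Q_inv ht
  have hv' : v⁻¹ = v := by rw [inv_eq_iff_mul_eq_one]; exact hv
  -- `v` inverts `P`
  have hvinv : ∀ c ∈ (P : Subgroup G), v * c * v⁻¹ = c⁻¹ := by
    intro c hc
    have hvc := conj_mem_of_mem_normalizer hvN hc
    have hfix : v * (c * (v * c * v⁻¹)) * v⁻¹ = c * (v * c * v⁻¹) := by
      have h1 := C.hab _ P.2 _ hvc _ hc
      have e1 : v * (c * (v * c * v⁻¹)) * v⁻¹ = (v * c * v⁻¹) * ((v * v) * c * (v * v)⁻¹) := by group
      rw [e1, hv]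
      simp only [one_mul, inv_one, mul_one]
      exact h1
    have hcomm : Commute (c * (v * c * v⁻¹)) v := (mul_inv_eq_iff_eq_mul.mp hfix).symm
    have hmem : c * (v * c * v⁻¹) ∈ Ap p v := by
      rw [(C.conj h).mem_Ap hh hv1]
      exact ⟨hcomm, PElt.of_mem P.2 ((P : Subgroup G).mul_mem hc hvc)⟩
    have h0 := (C.conj h).Ap_trivial hI' hh hv1 hmem
    exact eq_inv_of_mul_eq_one_right h0
  -- the centralizer of `P`
  set Z : Subgroup G := centralizer ((P : Subgroup G) : Set G) with hZ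
  have hPZ : (P : Subgroup G) ≤ Z := by
    intro a ha
    rw [hZ, mem_centralizer_iff]
    intro b hb
    exact C.hab _ P.2 b hb a ha
  have hZ2 : ¬ 2 ∣ Nat.card Z := by
    intro hd
    obtain ⟨z, hz, hzo⟩ := exists_mem_orderOf (p := 2) hd
    have hzz : z * z = 1 := by
      have := pow_orderOf_eq_one z
      rwa [hzo, sq] at this
    have hz1 : z ≠ 1 := by
      rintro rfl
      simp at hzo
    obtain ⟨h₁, hh₁⟩ := C.exists_conj_mem hzz
    have hI₁ := C.caseI_conj hI h₁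
    apply hP2
    rw [eq_bot_iff]
    intro a ha
    rw [Subgroup.mem_bot]
    apply (C.conj h₁).Ap_trivial hI₁ hh₁ hz1
    rw [(C.conj h₁).mem_Ap hh₁ hz1]
    refine ⟨?_, PElt.of_mem P.2 ha⟩
    rw [hZ, mem_centralizer_iff] at hz
    exact hz a ha
  have htZ : t ∈ normalizer (Z : Set G) := by
    apply Cfsg.Agent.Lib.Transfer.Frobenius.mem_normalizer_of_conj_mem
    intro z hz
    rw [hZ, mem_centralizer_iff] at hz ⊢
    intro a ha
    have ha' : t⁻¹ * a * t ∈ (P : Subgroup G) := by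
      have := conj_mem_of_mem_normalizer ((normalizer _).inv_mem hP1) ha
      simpa using this
    have h1 := hz _ ha'
    calc a * (t * z * t⁻¹) = t * ((t⁻¹ * a * t) * z) * t⁻¹ := by group
      _ = t * (z * (t⁻¹ * a * t)) * t⁻¹ := by rw [h1]
      _ = _ := by group
  have hZP : IsPGroup p Z := C.isP_of_odd_norm hZ2 ht2 ht1 htZ
  have hZeq : Z = (P : Subgroup G) := P.3 hZP hPZ
  have hvt : v * t ∈ Z := by
    rw [hZ, mem_centralizer_iff]
    intro a ha
    have h1 := hvinv _ ((P : Subgroup G).inv_mem ha)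
    have h2 := hP3 a ha
    have e1 : v * a⁻¹ * v⁻¹ = a := by simpa using h1
    have e2 : v * t * a * (v * t)⁻¹ = a := by
      calc v * t * a * (v * t)⁻¹ = v * (t * a * t⁻¹) * v⁻¹ := by group
        _ = v * a⁻¹ * v⁻¹ := by rw [h2]
        _ = a := e1
    exact (mul_inv_eq_iff_eq_mul.mp e2).symm
  rw [hZeq] at hvt
  refine ⟨v * t, hvt, ?_⟩
  rw [mul_assoc, ht2, mul_one]

/-- Every involution outside `Q` arises from `t` and `P`. -/
theorem surj (hI : C.CaseI) {t : G} (ht : t ∈ C.Q) (ht1 : t ≠ 1) (P : Sylow p G)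
    (hP1 : t ∈ normalizer ((P : Subgroup G) : Set G)) (hP2 : (P : Subgroup G) ≠ ⊥)
    (hP3 : ∀ c ∈ (P : Subgroup G), t * c * t⁻¹ = c⁻¹) {u : G} (hu : u * u = 1) (huQ : u ∉ C.Q) :
    ∃ e ∈ C.Q, ∃ c ∈ (P : Subgroup G), c ≠ 1 ∧ u = e * (t * c) * e⁻¹ := by
  classical
  haveI := fact_prime C
  have htt := C.hQe t ht
  obtain ⟨h1, h2, h3⟩ := C.prod_pelt hI ht ht1 hu huQ
  obtain ⟨P', hgP', htP'⟩ := C.exists_sylow hI htt ht1 h1 h2 h3
  obtain ⟨h, hh⟩ := MulAction.exists_smul_eq G P P'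
  have hmemP' : ∀ a, a ∈ (P' : Subgroup G) ↔ h⁻¹ * a * h ∈ (P : Subgroup G) := by
    intro a
    rw [← hh, Sylow.coe_subgroup_smul, Subgroup.mem_smul_pointwise_iff_exists]
    constructor
    · rintro ⟨b, hb, rfl⟩
      have : h⁻¹ * (MulAut.conj h • b) * h = b := by
        simp [MulAut.smul_def, mul_assoc]
      rw [this]; exact hb
    · intro ha
      refine ⟨_, ha, ?_⟩
      simp [MulAut.smul_def, mul_assoc]
  set t₁ := h⁻¹ * t * h with ht₁
  have ht₁N : t₁ ∈ normalizer ((P : Subgroup G) : Set G) := by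
    apply Cfsg.Agent.Lib.Transfer.Frobenius.mem_normalizer_of_conj_mem
    intro a ha
    have h4 : h * a * h⁻¹ ∈ (P' : Subgroup G) := by
      rw [hmemP']; simpa [mul_assoc] using ha
    have h5 := conj_mem_of_mem_normalizer htP' h4
    rw [hmemP'] at h5
    convert h5 using 1
    rw [ht₁]; group
  have ht₁t₁ : t₁ * t₁ = 1 := by
    calc t₁ * t₁ = h⁻¹ * (t * t) * h := by rw [ht₁]; group
      _ = 1 := by rw [htt]; group
  have ht₁1 : t₁ ≠ 1 := by
    intro e
    apply ht1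
    have : t = h * t₁ * h⁻¹ := by rw [ht₁]; group
    rw [this, e]; group
  obtain ⟨c₁, hc₁, hc₁t⟩ := C.invert_norm hI ht ht1 P hP1 hP2 hP3 ht₁t₁ ht₁1 ht₁N
  -- a square root of `c₁`
  have hc₁E : PElt p c₁ := PElt.of_mem P.2 hc₁
  have hodd := PElt.not_two_dvd C.hp2 hc₁E
  obtain ⟨m, hm⟩ : ∃ m, orderOf c₁ + 1 = 2 * m := by
    have : Odd (orderOf c₁) := Nat.not_even_iff_odd.mp (fun h => hodd h.two_dvd)
    obtain ⟨k, hk⟩ := this
    exact ⟨k + 1, by omega⟩
  set c₂ := c₁ ^ m with hc₂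
  have hc₂P : c₂ ∈ (P : Subgroup G) := (P : Subgroup G).pow_mem hc₁ m
  have hc₂2 : c₂ * c₂ = c₁ := by
    rw [hc₂, ← pow_add, ← two_mul, ← hm, pow_succ, pow_orderOf_eq_one, one_mul]
  have h4 : c₂ * t * c₂⁻¹ = t₁ := by
    have h5 := hP3 _ ((P : Subgroup G).inv_mem hc₂P)
    rw [inv_inv] at h5
    calc c₂ * t * c₂⁻¹ = c₂ * (t * c₂⁻¹ * t⁻¹) * t := by group
      _ = c₂ * c₂ * t := by rw [h5]
      _ = t₁ := by rw [hc₂2, hc₁t]
  set e := h * c₂ with he
  have het : e * t * e⁻¹ = t := by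
    calc e * t * e⁻¹ = h * (c₂ * t * c₂⁻¹) * h⁻¹ := by rw [he]; group
      _ = h * t₁ * h⁻¹ := by rw [h4]
      _ = t := by rw [ht₁]; group
  have heC : Commute e t := (mul_inv_eq_iff_eq_mul.mp het)
  have heQ : e ∈ C.Q := C.cent_t hI ht ht1 heC
  refine ⟨e, heQ, e⁻¹ * (t * u) * e, ?_, ?_, ?_⟩
  · have h5 := (hmemP' _).mp hgP'
    have h6 := (P : Subgroup G).mul_mem ((P : Subgroup G).mul_mem ((P : Subgroup G).inv_mem hc₂P) h5) hc₂P
    convert h6 using 1
    rw [he]; group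
  · intro e1
    apply h2
    have : t * u = e * (e⁻¹ * (t * u) * e) * e⁻¹ := by group
    rw [this, e1]; group
  · have e1 : e * (t * (e⁻¹ * (t * u) * e)) * e⁻¹ = (e * t * e⁻¹) * (t * u) := by group
    rw [e1, het, ← mul_assoc, htt, one_mul]

/-- The case `CaseI` is impossible. -/
theorem false_of_caseI (hI : C.CaseI) : False := by
  classical
  haveI := fact_prime C
  haveI : Fintype G := Fintype.ofFinite G
  obtain ⟨t, ht, ht1⟩ := C.exists_ne_one
  obtain ⟨P, hP1, hP2, hP3⟩ := C.exists_inverted hI ht ht1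
  have htt := C.hQe t ht
  have ht' : t⁻¹ = t := C.Q_inv ht
  set Pf : Finset G := Finset.univ.filter (fun c => c ∈ (P : Subgroup G) ∧ c ≠ 1) with hPf
  set Qf : Finset G := Finset.univ.filter (fun c => c ∈ C.Q) with hQf
  set Qg : Finset G := Finset.univ.filter (fun c => c ∈ C.Q ∧ c ≠ 1) with hQg
  set U : Finset G := Finset.univ.filter (fun u => u * u = 1 ∧ u ∉ C.Q) with hU
  have hQfc : Qf.card = p + 1 := by
    rw [← C.hQc, Nat.card_eq_fintype_card, Fintype.card_subtype]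
  have hQgc : Qg.card = p := by
    have : Qg = Qf.erase 1 := by
      ext z
      simp [hQg, hQf, and_comm]
    rw [this, Finset.card_erase_of_mem (by simp [hQf, C.Q.one_mem]), hQfc]
    simp
  have hm : 0 < Pf.card := by
    rw [Finset.card_pos]
    by_contra hne
    apply hP2
    rw [eq_bot_iff]
    intro c hc
    rw [Subgroup.mem_bot]
    by_contra hc1
    exact hne ⟨c, by simp [hPf, hc, hc1]⟩
  set f : G × G → G := fun z => z.1 * (t * z.2) * z.1⁻¹ with hf
  set Dom : Finset (G × G) := Qf ×ˢ Pf with hDom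
  have hUim : U ⊆ Dom.image f := by
    intro u hu
    simp only [hU, Finset.mem_filter, Finset.mem_univ, true_and] at hu
    obtain ⟨e, he, c, hc, hc1, rfl⟩ := C.surj hI ht ht1 P hP1 hP2 hP3 hu.1 hu.2
    refine Finset.mem_image.mpr ⟨(e, c), ?_, rfl⟩
    simp [hDom, hQf, hPf, he, hc, hc1]
  have hfib : 2 * (Dom.image f).card ≤ Dom.card := by
    apply Finset.mul_card_image_le_card
    intro a ha
    obtain ⟨⟨e, c⟩, hz, rfl⟩ := Finset.mem_image.mp ha
    have hz' := Finset.mem_product.mp hz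
    have he : e ∈ C.Q := by simpa [hQf] using hz'.1
    have hc : c ∈ (P : Subgroup G) ∧ c ≠ 1 := by simpa [hPf] using hz'.2
    have hmem1 : (e, c) ∈ Dom.filter (fun x => f x = f (e, c)) :=
      Finset.mem_filter.mpr ⟨hz, rfl⟩
    have hmem2 : (e * t, c⁻¹) ∈ Dom.filter (fun x => f x = f (e, c)) := by
      refine Finset.mem_filter.mpr ⟨?_, ?_⟩
      · simp only [hDom, Finset.mem_product, hQf, hPf, Finset.mem_filter, Finset.mem_univ, true_and]
        refine ⟨C.Q.mul_mem he ht, (P : Subgroup G).inv_mem hc.1, ?_⟩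
        intro e1
        exact hc.2 (inv_eq_one.mp e1)
      · simp only [hf]
        have h1 := hP3 c hc.1
        have h2 : t * c⁻¹ * t⁻¹ = c := by
          have : t * c⁻¹ * t⁻¹ = (t * c * t⁻¹)⁻¹ := by group
          rw [this, h1, inv_inv]
        have e1 : t * (t * c⁻¹) * t⁻¹ = t * c := by
          calc t * (t * c⁻¹) * t⁻¹ = t * (t * c⁻¹ * t⁻¹) := by group
            _ = t * c := by rw [h2]
        calc e * t * (t * c⁻¹) * (e * t)⁻¹ = e * (t * (t * c⁻¹) * t⁻¹) * e⁻¹ := by group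
          _ = _ := by rw [e1]
    have hne : ((e, c) : G × G) ≠ (e * t, c⁻¹) := by
      intro h
      have := congrArg Prod.fst h
      simp only at this
      exact ht1 (by simpa using this)
    calc 2 = ({(e, c), (e * t, c⁻¹)} : Finset (G × G)).card := (Finset.card_pair hne).symm
      _ ≤ _ := by
        apply Finset.card_le_card
        intro x hx
        simp only [Finset.mem_insert, Finset.mem_singleton] at hx
        rcases hx with rfl | rfl
        · exact hmem1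
        · exact hmem2
  have hDomc : Dom.card = (p + 1) * Pf.card := by
    rw [hDom, Finset.card_product, hQfc]
  have hlow : Pf.card * p ≤ U.card := by
    rw [← hQgc, ← Finset.card_product]
    apply Finset.card_le_card_of_injOn (fun z => z.1 * z.2 * z.1⁻¹)
    · rintro ⟨c, v⟩ hz
      have hz' := Finset.mem_product.mp (Finset.mem_coe.mp hz)
      have hc : c ∈ (P : Subgroup G) ∧ c ≠ 1 := by simpa [hPf] using hz'.1
      have hv : v ∈ C.Q ∧ v ≠ 1 := by simpa [hQg] using hz'.2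
      simp only [hU, Finset.coe_filter, Finset.mem_univ, true_and, Set.mem_setOf_eq]
      refine ⟨?_, ?_⟩
      · have h2 := C.hQe v hv.1
        calc c * v * c⁻¹ * (c * v * c⁻¹) = c * (v * v) * c⁻¹ := by group
          _ = 1 := by rw [h2]; group
      · intro hin
        have h1 : c⁻¹ * (c * v * c⁻¹) * c = v := by group
        have hc1 : c * v * c⁻¹ ≠ 1 := by
          intro e
          apply hv.2
          rw [← h1, e]; group
        have h2 := C.ti hI hin hc1 (by rw [h1]; exact hv.1) t ht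
        exact hc.2 (C.inverted_norm (PElt.of_mem P.2 hc.1) ht (hP3 c hc.1) h2)
    · rintro ⟨c, v⟩ hz ⟨c', v'⟩ hz' heq
      have hz1 := Finset.mem_product.mp (Finset.mem_coe.mp hz)
      have hz2 := Finset.mem_product.mp (Finset.mem_coe.mp hz')
      have hc : c ∈ (P : Subgroup G) ∧ c ≠ 1 := by simpa [hPf] using hz1.1
      have hv : v ∈ C.Q ∧ v ≠ 1 := by simpa [hQg] using hz1.2
      have hc' : c' ∈ (P : Subgroup G) ∧ c' ≠ 1 := by simpa [hPf] using hz2.1
      have hv' : v' ∈ C.Q ∧ v' ≠ 1 := by simpa [hQg] using hz2.2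
      have heq' : c * v * c⁻¹ = c' * v' * c'⁻¹ := heq
      set d := c⁻¹ * c' with hd
      have hdP : d ∈ (P : Subgroup G) := (P : Subgroup G).mul_mem ((P : Subgroup G).inv_mem hc.1) hc'.1
      have h1 : d⁻¹ * v * d = v' := by
        calc d⁻¹ * v * d = c'⁻¹ * (c * v * c⁻¹) * c' := by rw [hd]; group
          _ = c'⁻¹ * (c' * v' * c'⁻¹) * c' := by rw [heq']
          _ = v' := by group
      have h2 := C.ti hI hv.1 hv.2 (by rw [h1]; exact hv'.1) t ht
      have hd1 : d = 1 := C.inverted_norm (PElt.of_mem P.2 hdP) ht (hP3 d hdP) h2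
      have hcc : c' = c := by
        have : c⁻¹ * c' = 1 := hd1
        exact (inv_mul_eq_one.mp this).symm
      subst hcc
      rw [hd1] at h1
      simp only [inv_one, one_mul, mul_one] at h1
      rw [h1]
  have hsub := Finset.card_le_card hUim
  have h5 : Pf.card * (2 * p) ≤ Pf.card * (p + 1) := by
    calc Pf.card * (2 * p) = 2 * (Pf.card * p) := by ring
      _ ≤ 2 * (Dom.image f).card := by
        apply Nat.mul_le_mul_left
        exact hlow.trans hsub
      _ ≤ Dom.card := hfib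
      _ = _ := by rw [hDomc]; ring
  have h6 := Nat.le_of_mul_le_mul_left h5 hm
  have := p_ge C
  omega

end Ctx

end Cfsg.Agent.Lib.Blocks.MixP
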