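import Mathlib
import Cfsg.Agent.Lib.Blocks.MixP.CaseI
import Cfsg.Agent.S3282

set_option autoImplicit false

namespace Cfsg.Agent.Lib.Blocks.MixP

open Subgroup

universe u

variable {G : Type u} [Group G] [Finite G] {p : ℕ}

section general

omit [Finite G] in
theorem card_sup_normal [Finite G] (H K : Subgroup G) [K.Normal] :
    Nat.card (H ⊔ K : Subgroup G) * Nat.card (H ⊓ K : Subgroup G) = Nat.card H * Nat.card K := by
  have h1 : K.relIndex (H ⊔ K) = K.relIndex H := relIndex_sup_right H K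
  have h2 : (⊥ : Subgroup G).relIndex K * K.relIndex (H ⊔ K) = (⊥ : Subgroup G).relIndex (H ⊔ K) :=
    relIndex_mul_relIndex _ _ _ bot_le le_sup_right
  have h3 : (⊥ : Subgroup G).relIndex (H ⊓ K) * (H ⊓ K).relIndex H = (⊥ : Subgroup G).relIndex H :=
    relIndex_mul_relIndex _ _ _ bot_le inf_le_left
  have h4 : (H ⊓ K).relIndex H = K.relIndex H := inf_relIndex_left H K
  simp only [relIndex_bot_left] at h2 h3
  rw [← h2, ← h3, h1, h4]
  ring

theorem card_sup_of_le_normalizer {A B : Subgroup G} (h : B ≤ normalizer (A : Set G)) :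
    Nat.card (A ⊔ B : Subgroup G) * Nat.card (A ⊓ B : Subgroup G) = Nat.card A * Nat.card B := by
  set N : Subgroup G := normalizer (A : Set G) with hN
  have hAN : A ≤ N := Subgroup.le_normalizer
  haveI : (A.subgroupOf N).Normal := Subgroup.normal_in_normalizer
  have key := card_sup_normal (B.subgroupOf N) (A.subgroupOf N)
  have hc : ∀ X : Subgroup G, X ≤ N → Nat.card (X.subgroupOf N) = Nat.card X := fun X hX =>
    Nat.card_congr (subgroupOfEquivOfLe hX).toEquiv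
  have e1 : B.subgroupOf N ⊔ A.subgroupOf N = (B ⊔ A).subgroupOf N :=
    (Subgroup.subgroupOf_sup h hAN).symm
  have e2 : B.subgroupOf N ⊓ A.subgroupOf N = (B ⊓ A).subgroupOf N := by
    ext y; simp [mem_subgroupOf]
  rw [e1, e2, hc _ (sup_le h hAN), hc _ (inf_le_left.trans h), hc _ h, hc _ hAN] at key
  rw [sup_comm, inf_comm, key, mul_comm]

end general

namespace Ctx

variable (C : Ctx G p)

include C

theorem four (hII : ¬ C.CaseI) : Nat.card C.Q = 4 := by
  unfold CaseI at hII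
  push Not at hII
  obtain ⟨t, ht, ht1, c, hc, e, he, hne⟩ := hII
  exact C.four_of_noncentral ht ht1 hc he (fun h => hne (by
    rwa [mul_inv_eq_iff_eq_mul] at h))

theorem p_eq_three (hII : ¬ C.CaseI) : p = 3 := by
  have h1 := C.four hII
  rw [C.hQc] at h1
  omega

/-- The four elements of `Q`. -/
theorem Q_cases (hc : Nat.card C.Q = 4) {t s e : G} (ht : t ∈ C.Q) (ht1 : t ≠ 1) (hs : s ∈ C.Q)
    (hs1 : s ≠ 1) (hst : s ≠ t) (he : e ∈ C.Q) : e = 1 ∨ e = t ∨ e = s ∨ e = t * s := by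
  classical
  have h1 : t * s ≠ 1 := by
    intro h
    apply hst
    have h2 : t⁻¹ = s := inv_eq_of_mul_eq_one_right h
    rw [← h2, C.Q_inv ht]
  have h2 : t * s ≠ t := by
    intro h
    exact hs1 (by simpa using h)
  have h3 : t * s ≠ s := by
    intro h
    exact ht1 (by simpa using h)
  have hcardF : ({1, t, s, t * s} : Finset G).card = 4 := by
    rw [Finset.card_insert_of_notMem, Finset.card_insert_of_notMem, Finset.card_insert_of_notMem,
      Finset.card_singleton]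
    · simpa using h3.symm
    · simp only [Finset.mem_insert, Finset.mem_singleton, not_or]
      exact ⟨hst.symm, h2.symm⟩
    · simp only [Finset.mem_insert, Finset.mem_singleton, not_or]
      exact ⟨ht1.symm, hs1.symm, h1.symm⟩
  have hsub : (({1, t, s, t * s} : Finset G) : Set G) ⊆ (C.Q : Set G) := by
    intro y hy
    simp only [Finset.coe_insert, Finset.coe_singleton, Set.mem_insert_iff,
      Set.mem_singleton_iff] at hy
    rcases hy with rfl | rfl | rfl | rfl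
    · exact C.Q.one_mem
    · exact ht
    · exact hs
    · exact C.Q.mul_mem ht hs
  have heq := Set.eq_of_subset_of_ncard_le hsub (by
    rw [Set.ncard_coe_finset, hcardF, ← hc]
    exact le_of_eq (Nat.card_coe_set_eq _)) (Set.toFinite _)
  have : e ∈ (({1, t, s, t * s} : Finset G) : Set G) := by
    rw [heq]; exact he
  simpa using this

/-- II.1 -/
theorem exists_noncomm (hII : ¬ C.CaseI) {t : G} (ht : t ∈ C.Q) (ht1 : t ≠ 1) :
    ∃ c ∈ Ap p t, ∃ e ∈ C.Q, e * c ≠ c * e := by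
  unfold CaseI at hII
  push Not at hII
  obtain ⟨t₀, ht₀, ht₀1, c₀, hc₀, e₀, he₀, hne⟩ := hII
  obtain ⟨i, hi⟩ := C.htr t₀ ht₀ t ht ht₀1 ht1
  obtain ⟨h1, h2⟩ := (C.mem_Ap ht₀ ht₀1).mp hc₀
  refine ⟨C.x ^ i * c₀ * (C.x ^ i)⁻¹, ?_, C.x ^ i * e₀ * (C.x ^ i)⁻¹, C.hxP _ he₀ i, ?_⟩
  · rw [C.mem_Ap ht ht1]
    refine ⟨?_, h2.conj _⟩
    rw [← hi]
    show C.x ^ i * c₀ * (C.x ^ i)⁻¹ * (C.x ^ i * t₀ * (C.x ^ i)⁻¹) = C.x ^ i * t₀ * (C.x ^ i)⁻¹ * (C.x ^ i * c₀ * (C.x ^ i)⁻¹)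
    have e1 : c₀ * t₀ = t₀ * c₀ := h1.eq
    calc C.x ^ i * c₀ * (C.x ^ i)⁻¹ * (C.x ^ i * t₀ * (C.x ^ i)⁻¹) = C.x ^ i * (c₀ * t₀) * (C.x ^ i)⁻¹ := by group
      _ = C.x ^ i * (t₀ * c₀) * (C.x ^ i)⁻¹ := by rw [e1]
      _ = _ := by group
  · intro heq
    apply hne
    have : C.x ^ i * (e₀ * c₀) * (C.x ^ i)⁻¹ = C.x ^ i * (c₀ * e₀) * (C.x ^ i)⁻¹ := by
      calc C.x ^ i * (e₀ * c₀) * (C.x ^ i)⁻¹ = C.x ^ i * e₀ * (C.x ^ i)⁻¹ * (C.x ^ i * c₀ * (C.x ^ i)⁻¹) := by group
        _ = C.x ^ i * c₀ * (C.x ^ i)⁻¹ * (C.x ^ i * e₀ * (C.x ^ i)⁻¹) := heq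
        _ = _ := by group
    simpa using this

/-- II.2 -/
theorem central_trivial (hII : ¬ C.CaseI) {y : G} (hy : PElt p y) (hQ : ∀ e ∈ C.Q, e * y = y * e) :
    y = 1 := by
  classical
  by_contra hy1
  obtain ⟨t, ht, ht1⟩ := C.exists_ne_one
  have hmem : ∀ i : ℕ, C.x ^ i * y * (C.x ^ i)⁻¹ ∈ Ap p t := by
    intro i
    rw [C.mem_Ap ht ht1]
    refine ⟨?_, hy.conj _⟩
    show C.x ^ i * y * (C.x ^ i)⁻¹ * t = t * (C.x ^ i * y * (C.x ^ i)⁻¹)
    have h1 := hQ _ (C.xinv_mem ht i)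
    have e1 : t = C.x ^ i * ((C.x ^ i)⁻¹ * t * C.x ^ i) * (C.x ^ i)⁻¹ := by group
    calc C.x ^ i * y * (C.x ^ i)⁻¹ * t = C.x ^ i * (y * ((C.x ^ i)⁻¹ * t * C.x ^ i)) * (C.x ^ i)⁻¹ := by group
      _ = C.x ^ i * (((C.x ^ i)⁻¹ * t * C.x ^ i) * y) * (C.x ^ i)⁻¹ := by rw [← h1]
      _ = _ := by group
  have hxy : Commute C.x y := C.orbit_comm hy (fun i j => C.Ap_comm ht ht1 (hmem i) (hmem j))
  have hy0 : y ∈ Ap p t := by simpa using hmem 0
  set H : Subgroup G := centralizer ({y} : Set G) with hH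
  have hmemH : ∀ c, c ∈ H ↔ c * y = y * c := by
    intro c
    rw [hH, mem_centralizer_singleton_iff]
  have hHne : H ≠ ⊤ := by
    intro htop
    apply hy1
    apply C.center_p _ hy
    rw [mem_center_iff]
    intro g
    have : g ∈ H := by rw [htop]; trivial
    exact (hmemH g).mp this
  have hnorm := @normal_of_le _ _ _ _ C H hHne (fun e he => (hmemH e).mpr (hQ e he))
    ((hmemH _).mpr hxy.eq)
  obtain ⟨c, hc, e, he, hne⟩ := C.exists_noncomm hII ht ht1
  obtain ⟨h1, h2⟩ := (C.mem_Ap ht ht1).mp hc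
  have hcH : c ∈ H := (hmemH c).mpr (C.Ap_comm ht ht1 hc hy0)
  have hfix := C.fix_cent h2 (hnorm hcH) ht ht1 (by rw [h1.eq]; group) e he
  apply hne
  rw [mul_inv_eq_iff_eq_mul] at hfix
  exact hfix.symm

/-- II.3 -/
theorem inverts (hII : ¬ C.CaseI) {t s c : G} (ht : t ∈ C.Q) (ht1 : t ≠ 1) (hs : s ∈ C.Q)
    (hs1 : s ≠ 1) (hst : s ≠ t) (hc : c ∈ Ap p t) : s * c * s⁻¹ = c⁻¹ := by
  obtain ⟨h1, h2⟩ := (C.mem_Ap ht ht1).mp hc
  have hst' : s * t = t * s := C.Q_comm hs ht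
  have hc' : s * c * s⁻¹ ∈ Ap p t := by
    rw [C.mem_Ap ht ht1]
    refine ⟨?_, h2.conj _⟩
    show s * c * s⁻¹ * t = t * (s * c * s⁻¹)
    have e1 : c * t = t * c := h1.eq
    have e2 : s⁻¹ * t = t * s⁻¹ := by
      rw [C.Q_inv hs, hst']
    calc s * c * s⁻¹ * t = s * c * (s⁻¹ * t) := by group
      _ = s * (c * t) * s⁻¹ := by rw [e2]; group
      _ = (s * t) * c * s⁻¹ := by rw [e1]; group
      _ = _ := by rw [hst']; group
  have hd : c * (s * c * s⁻¹) ∈ Ap p t := (Ap p t).mul_mem hc hc'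
  obtain ⟨h3, h4⟩ := (C.mem_Ap ht ht1).mp hd
  have hcs : ∀ e ∈ C.Q, e * (c * (s * c * s⁻¹)) = (c * (s * c * s⁻¹)) * e := by
    have hs_comm : s * (c * (s * c * s⁻¹)) = (c * (s * c * s⁻¹)) * s := by
      have hsi : s⁻¹ = s := C.Q_inv hs
      have hss := C.hQe s hs
      have e1 := C.Ap_comm ht ht1 hc hc'
      rw [hsi] at e1 ⊢
      calc s * (c * (s * c * s)) = s * ((s * c * s) * c) := by rw [e1]
        _ = (s * s) * c * s * c := by group
        _ = c * s * c := by rw [hss, one_mul]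
        _ = c * s * c * (s * s) := by rw [hss, mul_one]
        _ = (c * (s * c * s)) * s := by group
    have ht_comm : t * (c * (s * c * s⁻¹)) = (c * (s * c * s⁻¹)) * t := h3.eq.symm
    intro e he
    rcases C.Q_cases (C.four hII) ht ht1 hs hs1 hst he with rfl | rfl | rfl | rfl
    · simp
    · exact ht_comm
    · exact hs_comm
    · rw [mul_assoc, hs_comm, ← mul_assoc, ht_comm, mul_assoc]
  have := C.central_trivial hII h4 hcs
  exact eq_inv_of_mul_eq_one_right this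

/-- II.5: the centralizer of a non-identity element of `Ap p t`. -/
theorem cent_struct (hII : ¬ C.CaseI) {t g : G} (ht : t ∈ C.Q) (ht1 : t ≠ 1) (hg : g ∈ Ap p t)
    (hg1 : g ≠ 1) : ∃ N₀ : Subgroup G, IsPGroup p N₀ ∧ (∀ y, y ∈ N₀ ↔ Commute y g ∧ PElt p y) ∧
      ∀ y, Commute y g → ∃ a ∈ N₀, y = a ∨ y = a * t := by
  classical
  haveI := fact_prime C
  obtain ⟨hgt, hgP⟩ := (C.mem_Ap ht ht1).mp hg
  set Y : Subgroup G := centralizer ({g} : Set G) with hY
  have hmem : ∀ c, c ∈ Y ↔ Commute c g := by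
    intro c
    rw [hY, mem_centralizer_singleton_iff]
    exact Iff.rfl
  have hginv : g⁻¹ ≠ g := by
    intro h
    apply hg1
    apply PElt.eq_one_of_sq C.hp2 hgP
    calc g * g = g * g⁻¹ := by rw [h]
      _ = 1 := by group
  have hact : ∀ e ∈ C.Q, e ≠ 1 → e ≠ t → e * g * e⁻¹ = g⁻¹ := fun e he he1 het =>
    C.inverts hII ht ht1 he he1 het hg
  have hS : ∀ e, e ∈ Y ⊓ C.Q → e = 1 ∨ e = t := by
    rintro e ⟨he1, he2⟩
    by_contra hc
    push Not at hc
    have h1 := hact e he2 hc.1 hc.2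
    have h2 : e * g * e⁻¹ = g := by
      rw [((hmem e).mp he1).eq]; group
    rw [h2] at h1
    exact hginv h1.symm
  have hQN : C.Q ≤ normalizer (Y : Set G) := by
    apply le_normalizer_of_conj
    intro e he y hy
    rw [hmem] at hy ⊢
    by_cases h1 : e = 1
    · subst h1; simpa using hy
    by_cases h2 : e = t
    · subst h2
      show e * y * e⁻¹ * g = g * (e * y * e⁻¹)
      have e1 : y * g = g * y := hy.eq
      have e2 : e * g = g * e := hgt.eq.symm
      have e3 : e⁻¹ * g = g * e⁻¹ := by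
        rw [C.Q_inv he, e2]
      calc e * y * e⁻¹ * g = e * y * (e⁻¹ * g) := by group
        _ = e * (y * g) * e⁻¹ := by rw [e3]; group
        _ = (e * g) * y * e⁻¹ := by rw [e1]; group
        _ = _ := by rw [e2]; group
    · have h3 := hact e he h1 h2
      show e * y * e⁻¹ * g = g * (e * y * e⁻¹)
      have e1 : y * g = g * y := hy.eq
      have e2 : e * g⁻¹ * e⁻¹ = g := by
        have : e * g⁻¹ * e⁻¹ = (e * g * e⁻¹)⁻¹ := by group
        rw [this, h3, inv_inv]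
      have e3 : g⁻¹ * y = y * g⁻¹ := by
        rw [inv_mul_eq_iff_eq_mul, ← mul_assoc, ← e1]; group
      rw [← e2]
      calc e * y * e⁻¹ * (e * g⁻¹ * e⁻¹) = e * (y * g⁻¹) * e⁻¹ := by group
        _ = e * (g⁻¹ * y) * e⁻¹ := by rw [e3]
        _ = _ := by group
  have hS2 : IsPGroup 2 (Y ⊓ C.Q : Subgroup G) := C.hQ2.to_le inf_le_right
  have hSS : ¬ 2 ∣ (Y ⊓ C.Q : Subgroup G).relIndex Y := by
    have h1 := card_sup_of_le_normalizer hQN
    have h2 : (⊥ : Subgroup G).relIndex C.Q * C.Q.relIndex (Y ⊔ C.Q) = (⊥ : Subgroup G).relIndex (Y ⊔ C.Q) :=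
      relIndex_mul_relIndex _ _ _ bot_le le_sup_right
    have h3 : (⊥ : Subgroup G).relIndex (Y ⊓ C.Q) * (Y ⊓ C.Q).relIndex Y = (⊥ : Subgroup G).relIndex Y :=
      relIndex_mul_relIndex _ _ _ bot_le inf_le_left
    simp only [relIndex_bot_left] at h2 h3
    have h4 : (Y ⊓ C.Q : Subgroup G).relIndex Y = C.Q.relIndex (Y ⊔ C.Q) := by
      have hpos : 0 < Nat.card C.Q * Nat.card (Y ⊓ C.Q : Subgroup G) :=
        Nat.mul_pos Nat.card_pos Nat.card_pos
      apply Nat.eq_of_mul_eq_mul_left hpos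
      calc Nat.card C.Q * Nat.card (Y ⊓ C.Q : Subgroup G) * (Y ⊓ C.Q : Subgroup G).relIndex Y
          = Nat.card C.Q * Nat.card Y := by rw [mul_assoc, h3]
        _ = Nat.card (Y ⊔ C.Q : Subgroup G) * Nat.card (Y ⊓ C.Q : Subgroup G) := by rw [h1, mul_comm]
        _ = _ := by rw [← h2]; ring
    rw [h4]
    exact C.not_dvd_card_of_le le_sup_right
  have hN : ∀ n ∈ Y, (∀ e ∈ (Y ⊓ C.Q : Subgroup G), n * e * n⁻¹ ∈ (Y ⊓ C.Q : Subgroup G)) →
      ∀ e ∈ (Y ⊓ C.Q : Subgroup G), n * e * n⁻¹ = e := by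
    intro n _ hn e he
    rcases hS e he with rfl | rfl
    · simp
    · rcases hS _ (hn e he) with h | h
      · exfalso
        apply ht1
        have : e = n⁻¹ * (n * e * n⁻¹) * n := by group
        rw [this, h]; group
      · exact h
  obtain ⟨N₀, h1, h2, h3, h4, h5⟩ := exists_comp Y (Y ⊓ C.Q) inf_le_left hS2 hSS hN
  have htY : t ∈ Y := (hmem t).mpr hgt.symm
  have hP : IsPGroup p N₀ := by
    refine C.isP_of_odd_norm h2 (C.hQe t ht) ht1 ?_
    exact Cfsg.Agent.Lib.Transfer.Frobenius.mem_normalizer_of_conj_mem (h3 t htY)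
  refine ⟨N₀, hP, ?_, ?_⟩
  · intro y
    constructor
    · intro hy
      exact ⟨(hmem y).mp (h1 hy), PElt.of_mem hP hy⟩
    · rintro ⟨hy1, hy2⟩
      exact h5 y ((hmem y).mpr hy1) (PElt.not_two_dvd C.hp2 hy2)
  · intro y hy
    obtain ⟨a, ha, e, he, rfl⟩ := h4 y ((hmem y).mpr hy)
    refine ⟨a, ha, ?_⟩
    rcases hS e he with rfl | rfl
    · left; simp
    · right; rfl

/-- `p`-elements in the centralizer of a non-identity element of `Ap p t` commute. -/
theorem pelts_comm (hII : ¬ C.CaseI) {t g a b : G} (ht : t ∈ C.Q) (ht1 : t ≠ 1) (hg : g ∈ Ap p t)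
    (hg1 : g ≠ 1) (ha : PElt p a) (hb : PElt p b) (hag : Commute a g) (hbg : Commute b g) :
    a * b = b * a := by
  obtain ⟨N₀, hP, hN, _⟩ := C.cent_struct hII ht ht1 hg hg1
  exact C.hab _ hP a ((hN a).mpr ⟨hag, ha⟩) b ((hN b).mpr ⟨hbg, hb⟩)

/-- Conjugating membership of `Ap`. -/
theorem Ap_conj {t h c : G} (ht : t ∈ C.Q) (ht1 : t ≠ 1) (hht : h * t * h⁻¹ ∈ C.Q)
    (hc : c ∈ Ap p (h * t * h⁻¹)) : h⁻¹ * c * h ∈ Ap p t := by
  have hne : h * t * h⁻¹ ≠ 1 := by
    intro e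
    apply ht1
    have : t = h⁻¹ * (h * t * h⁻¹) * h := by group
    rw [this, e]; group
  obtain ⟨h1, h2⟩ := (C.mem_Ap hht hne).mp hc
  rw [C.mem_Ap ht ht1]
  refine ⟨?_, by simpa using h2.conj h⁻¹⟩
  show h⁻¹ * c * h * t = t * (h⁻¹ * c * h)
  have e1 : c * (h * t * h⁻¹) = (h * t * h⁻¹) * c := h1.eq
  calc h⁻¹ * c * h * t = h⁻¹ * (c * (h * t * h⁻¹)) * h := by group
    _ = h⁻¹ * ((h * t * h⁻¹) * c) * h := by rw [e1]
    _ = _ := by group

/-- If two of the `Ap`s commute then so do any two. -/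
theorem all_commute (hII : ¬ C.CaseI) {t v a b : G} (ht : t ∈ C.Q) (ht1 : t ≠ 1) (hv : v ∈ C.Q)
    (hv1 : v ≠ 1) (hvt : v ≠ t) (h : ∀ c ∈ Ap p t, ∀ d ∈ Ap p v, c * d = d * c)
    (ha : a ∈ C.Q) (ha1 : a ≠ 1) (hb : b ∈ C.Q) (hb1 : b ≠ 1) (hab : a ≠ b) :
    ∀ c ∈ Ap p a, ∀ d ∈ Ap p b, c * d = d * c := by
  have hprod : ∀ {u w : G}, u ∈ C.Q → w ∈ C.Q → u ≠ w → u * w ≠ 1 := by
    intro u w hu hw huw e
    apply huw
    have h2 : u⁻¹ = w := inv_eq_of_mul_eq_one_right e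
    rw [← h2, C.Q_inv hu]
  obtain ⟨i, hi⟩ := C.htr (t * v) (C.Q.mul_mem ht hv) (a * b) (C.Q.mul_mem ha hb)
    (hprod ht hv hvt.symm) (hprod ha hb hab)
  set t' := C.x ^ i * t * (C.x ^ i)⁻¹ with ht'
  set v' := C.x ^ i * v * (C.x ^ i)⁻¹ with hv'
  have hprod' : t' * v' = a * b := by
    rw [← hi, ht', hv']; group
  have ht'Q : t' ∈ C.Q := C.hxP t ht i
  have hv'Q : v' ∈ C.Q := C.hxP v hv i
  have hv'1 : v' ≠ 1 := by
    intro e
    apply hv1
    have : v = (C.x ^ i)⁻¹ * v' * C.x ^ i := by rw [hv']; group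
    rw [this, e]; group
  have ht'1 : t' ≠ 1 := by
    intro e
    apply ht1
    have : t = (C.x ^ i)⁻¹ * t' * C.x ^ i := by rw [ht']; group
    rw [this, e]; group
  have key : ∀ c ∈ Ap p t', ∀ d ∈ Ap p v', c * d = d * c := by
    intro c hc d hd
    have h1 := C.Ap_conj ht ht1 ht'Q hc
    have h2 := C.Ap_conj hv hv1 hv'Q hd
    have h3 := h _ h1 _ h2
    calc c * d = C.x ^ i * (((C.x ^ i)⁻¹ * c * C.x ^ i) * ((C.x ^ i)⁻¹ * d * C.x ^ i)) * (C.x ^ i)⁻¹ := by group
      _ = C.x ^ i * (((C.x ^ i)⁻¹ * d * C.x ^ i) * ((C.x ^ i)⁻¹ * c * C.x ^ i)) * (C.x ^ i)⁻¹ := by rw [h3]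
      _ = d * c := by group
  rcases C.Q_cases (C.four hII) ha ha1 hb hb1 hab.symm ht'Q with h1 | h1 | h1 | h1
  · exact absurd h1 ht'1
  · -- `t' = a`, `v' = b`
    have hvb : v' = b := by
      rw [h1] at hprod'
      exact mul_left_cancel hprod'
    rw [← h1, ← hvb]
    exact key
  · -- `t' = b`, `v' = a`
    have hva : v' = a := by
      rw [h1, C.Q_comm ha hb] at hprod'
      exact mul_left_cancel hprod'
    intro c hc d hd
    rw [← hva] at hc
    rw [← h1] at hd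
    exact (key d hd c hc).symm
  · exfalso
    rw [h1] at hprod'
    have : v' = 1 := by simpa using hprod'
    exact hv'1 this

/-- Distinct `Ap`s do not commute. -/
theorem no_two_commute (hII : ¬ C.CaseI) {t v : G} (ht : t ∈ C.Q) (ht1 : t ≠ 1) (hv : v ∈ C.Q)
    (hv1 : v ≠ 1) (hvt : v ≠ t) (h : ∀ c ∈ Ap p t, ∀ d ∈ Ap p v, c * d = d * c) : False := by
  obtain ⟨c, hc, e, he, hne⟩ := C.exists_noncomm hII ht ht1
  have hconjne : ∀ i : ℕ, C.x ^ i * t * (C.x ^ i)⁻¹ ≠ 1 := by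
    intro i e
    apply ht1
    have : t = (C.x ^ i)⁻¹ * (C.x ^ i * t * (C.x ^ i)⁻¹) * C.x ^ i := by group
    rw [this, e]; group
  have hmem : ∀ i : ℕ, C.x ^ i * c * (C.x ^ i)⁻¹ ∈ Ap p (C.x ^ i * t * (C.x ^ i)⁻¹) := by
    intro i
    obtain ⟨h1, h2⟩ := (C.mem_Ap ht ht1).mp hc
    rw [C.mem_Ap (C.hxP t ht i) (hconjne i)]
    refine ⟨?_, h2.conj _⟩
    show C.x ^ i * c * (C.x ^ i)⁻¹ * (C.x ^ i * t * (C.x ^ i)⁻¹) = C.x ^ i * t * (C.x ^ i)⁻¹ * (C.x ^ i * c * (C.x ^ i)⁻¹)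
    have e1 : c * t = t * c := h1.eq
    calc C.x ^ i * c * (C.x ^ i)⁻¹ * (C.x ^ i * t * (C.x ^ i)⁻¹) = C.x ^ i * (c * t) * (C.x ^ i)⁻¹ := by group
      _ = C.x ^ i * (t * c) * (C.x ^ i)⁻¹ := by rw [e1]
      _ = _ := by group
  have hxc : Commute C.x c := by
    apply C.orbit_comm ((C.mem_Ap ht ht1).mp hc).2
    intro i j
    by_cases hij : C.x ^ i * t * (C.x ^ i)⁻¹ = C.x ^ j * t * (C.x ^ j)⁻¹
    · have h1 := hmem i
      have h2 := hmem j
      rw [← hij] at h2
      exact C.Ap_comm (C.hxP t ht i) (hconjne i) h1 h2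
    · exact C.all_commute hII ht ht1 hv hv1 hvt h (C.hxP t ht i) (hconjne i) (C.hxP t ht j)
        (hconjne j) hij _ (hmem i) _ (hmem j)
  obtain ⟨h1, h2⟩ := (C.mem_Ap ht ht1).mp hc
  have hc1 : c = 1 := by
    apply C.central_trivial hII h2
    have hxt : C.x * t * C.x⁻¹ ≠ t := C.x_move ht ht1
    have hxt1 : C.x * t * C.x⁻¹ ≠ 1 := by simpa using hconjne 1
    have hxtQ : C.x * t * C.x⁻¹ ∈ C.Q := C.hxN t ht
    have hct : t * c = c * t := h1.eq.symm
    have hcx : C.x * c = c * C.x := hxc.eq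
    have hcxt : (C.x * t * C.x⁻¹) * c = c * (C.x * t * C.x⁻¹) := by
      have hcxi : C.x⁻¹ * c = c * C.x⁻¹ := by
        rw [inv_mul_eq_iff_eq_mul, ← mul_assoc, hcx]; group
      calc (C.x * t * C.x⁻¹) * c = C.x * t * (C.x⁻¹ * c) := by group
        _ = C.x * (t * c) * C.x⁻¹ := by rw [hcxi]; group
        _ = (C.x * c) * t * C.x⁻¹ := by rw [hct]; group
        _ = _ := by rw [hcx]; group
    intro e he
    rcases C.Q_cases (C.four hII) ht ht1 hxtQ hxt1 hxt he with rfl | rfl | rfl | rfl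
    · simp
    · exact hct
    · exact hcxt
    · rw [mul_assoc, hcxt, ← mul_assoc, hct, mul_assoc]
  apply hne
  rw [hc1]; simp

/-- II.7: `p`-elements commuting with a non-identity element of `Ap p t` commute with `t`. -/
theorem pelt_comm_t (hII : ¬ C.CaseI) {t g n : G} (ht : t ∈ C.Q) (ht1 : t ≠ 1) (hg : g ∈ Ap p t)
    (hg1 : g ≠ 1) (hn : PElt p n) (hng : Commute n g) : Commute n t := by
  classical
  haveI := fact_prime C
  obtain ⟨hgt, hgP⟩ := (C.mem_Ap ht ht1).mp hg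
  obtain ⟨N₀, hP, hN, _⟩ := C.cent_struct hII ht ht1 hg hg1
  have htt := C.hQe t ht
  have hti : t⁻¹ = t := C.Q_inv ht
  -- N₀ is Q-invariant
  have hNQ : ∀ e ∈ C.Q, ∀ y ∈ N₀, e * y * e⁻¹ ∈ N₀ := by
    intro e he y hy
    obtain ⟨h1, h2⟩ := (hN y).mp hy
    rw [hN]
    refine ⟨?_, h2.conj e⟩
    by_cases h3 : e = 1
    · subst h3; simpa using h1
    by_cases h4 : e = t
    · subst h4
      show e * y * e⁻¹ * g = g * (e * y * e⁻¹)
      have e1 : y * g = g * y := h1.eq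
      have e2 : e * g = g * e := hgt.eq.symm
      have e3 : e⁻¹ * g = g * e⁻¹ := by
        rw [C.Q_inv he, e2]
      calc e * y * e⁻¹ * g = e * y * (e⁻¹ * g) := by group
        _ = e * (y * g) * e⁻¹ := by rw [e3]; group
        _ = (e * g) * y * e⁻¹ := by rw [e1]; group
        _ = _ := by rw [e2]; group
    · have h5 := C.inverts hII ht ht1 he h3 h4 hg
      show e * y * e⁻¹ * g = g * (e * y * e⁻¹)
      have e1 : y * g = g * y := h1.eq
      have e2 : e * g⁻¹ * e⁻¹ = g := by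
        have : e * g⁻¹ * e⁻¹ = (e * g * e⁻¹)⁻¹ := by group
        rw [this, h5, inv_inv]
      have e3 : g⁻¹ * y = y * g⁻¹ := by
        rw [inv_mul_eq_iff_eq_mul, ← mul_assoc, ← e1]; group
      rw [← e2]
      calc e * y * e⁻¹ * (e * g⁻¹ * e⁻¹) = e * (y * g⁻¹) * e⁻¹ := by group
        _ = e * (g⁻¹ * y) * e⁻¹ := by rw [e3]
        _ = _ := by group
  have hNcomm : ∀ a ∈ N₀, ∀ b ∈ N₀, a * b = b * a := C.hab _ hP
  have hnN : n ∈ N₀ := (hN n).mpr ⟨hng, hn⟩
  have hApN : ∀ c ∈ Ap p t, c ∈ N₀ := by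
    intro c hc
    rw [hN]
    exact ⟨C.Ap_comm ht ht1 hc hg, ((C.mem_Ap ht ht1).mp hc).2⟩
  by_contra hcomm
  set f : G := n * (t * n * t⁻¹)⁻¹ with hf
  have htnN : t * n * t⁻¹ ∈ N₀ := hNQ t ht n hnN
  have hfN : f ∈ N₀ := N₀.mul_mem hnN (N₀.inv_mem htnN)
  have hf1 : f ≠ 1 := by
    intro e
    apply hcomm
    have h1 : n = t * n * t⁻¹ := by
      rwa [hf, mul_inv_eq_one] at e
    show n * t = t * n
    calc n * t = t * n * t⁻¹ * t := by rw [← h1]
      _ = t * n := by group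
  have hft : t * f * t⁻¹ = f⁻¹ := by
    have e1 : t * (t * n * t⁻¹)⁻¹ * t⁻¹ = n⁻¹ := by
      calc t * (t * n * t⁻¹)⁻¹ * t⁻¹ = (t * t) * n⁻¹ * (t * t)⁻¹ := by group
        _ = n⁻¹ := by rw [htt]; simp
    calc t * f * t⁻¹ = (t * n * t⁻¹) * (t * (t * n * t⁻¹)⁻¹ * t⁻¹) := by rw [hf]; group
      _ = (t * n * t⁻¹) * n⁻¹ := by rw [e1]
      _ = f⁻¹ := by rw [hf]; group
  obtain ⟨s, hs, hs1, hst⟩ := C.exists_two t
  have hsi : s⁻¹ = s := C.Q_inv hs
  have hss := C.hQe s hs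
  have hf's : s * f * s⁻¹ ∈ N₀ := hNQ s hs f hfN
  set f₁ : G := f * (s * f * s⁻¹) with hf₁
  have hf₁N : f₁ ∈ N₀ := N₀.mul_mem hfN hf's
  by_cases hf₁1 : f₁ = 1
  · -- `s` inverts `f`
    have hsf : s * f * s⁻¹ = f⁻¹ := (eq_inv_of_mul_eq_one_right hf₁1)
    have hts : t * s ∈ C.Q := C.Q.mul_mem ht hs
    have hts1 : t * s ≠ 1 := by
      intro e
      apply hst
      have h2 : t⁻¹ = s := inv_eq_of_mul_eq_one_right e
      rw [← h2, hti]
    have htst : t * s ≠ t := by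
      intro h
      exact hs1 (by simpa using h)
    have hfts : f ∈ Ap p (t * s) := by
      rw [C.mem_Ap hts hts1]
      refine ⟨?_, PElt.of_mem hP hfN⟩
      show f * (t * s) = t * s * f
      have e1 : s * f = f⁻¹ * s := by
        rw [← hsf]; group
      have e2 : t * f⁻¹ = f * t := by
        have : t * f⁻¹ * t⁻¹ = f := by
          have h3 : t * f⁻¹ * t⁻¹ = (t * f * t⁻¹)⁻¹ := by group
          rw [h3, hft, inv_inv]
        exact mul_inv_eq_iff_eq_mul.mp this
      calc f * (t * s) = (f * t) * s := by group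
        _ = t * f⁻¹ * s := by rw [e2]
        _ = t * (f⁻¹ * s) := by group
        _ = t * (s * f) := by rw [e1]
        _ = _ := by group
    exact C.no_two_commute hII ht ht1 hts hts1 htst (fun c hc d hd =>
      C.pelts_comm hII hts hts1 hfts hf1 ((C.mem_Ap ht ht1).mp hc).2 ((C.mem_Ap hts hts1).mp hd).2
        (hNcomm c (hApN c hc) f hfN) (C.Ap_comm hts hts1 hd hfts))
  · have hf₁s : f₁ ∈ Ap p s := by
      rw [C.mem_Ap hs hs1]
      refine ⟨?_, PElt.of_mem hP hf₁N⟩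
      show f₁ * s = s * f₁
      have e1 := hNcomm f hfN _ hf's
      calc f₁ * s = (f * (s * f * s⁻¹)) * s := by rw [hf₁]
        _ = ((s * f * s⁻¹) * f) * s := by rw [e1]
        _ = s * (f * (s * f * s⁻¹)) := by
            rw [hsi]; group
        _ = _ := by rw [hf₁]
    exact C.no_two_commute hII ht ht1 hs hs1 hst (fun c hc d hd =>
      C.pelts_comm hII hs hs1 hf₁s hf₁1 ((C.mem_Ap ht ht1).mp hc).2 ((C.mem_Ap hs hs1).mp hd).2
        (hNcomm c (hApN c hc) f₁ hf₁N) (C.Ap_comm hs hs1 hd hf₁s))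

/-- II.11: every non-identity `p`-element commutes with an involution. -/
theorem exists_invol (hII : ¬ C.CaseI) {y : G} (hy : PElt p y) :
    ∃ z : G, z * z = 1 ∧ z ≠ 1 ∧ Commute y z := by
  classical
  haveI := fact_prime C
  obtain ⟨t, ht, ht1⟩ := C.exists_ne_one
  obtain ⟨c, hc, e, he, hne⟩ := C.exists_noncomm hII ht ht1
  have hc1 : c ≠ 1 := by
    rintro rfl
    simp at hne
  obtain ⟨P₀, hP₀⟩ := (C.isP_Ap ht ht1).exists_le_sylow
  obtain ⟨h, hh⟩ := Cfsg.Agent.Lib.Transfer.Frobenius.exists_conj_mem_of_isPGroup P₀ hy.isPGroup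
  have hw : h * y * h⁻¹ ∈ (P₀ : Subgroup G) := hh y (mem_zpowers y)
  have hcomm := C.hab _ P₀.2 _ hw c (hP₀ hc)
  have hkey : Commute (h * y * h⁻¹) t := C.pelt_comm_t hII ht ht1 hc hc1 (hy.conj h) hcomm
  refine ⟨h⁻¹ * t * h, ?_, ?_, ?_⟩
  · calc h⁻¹ * t * h * (h⁻¹ * t * h) = h⁻¹ * (t * t) * h := by group
      _ = 1 := by rw [C.hQe t ht]; group
  · intro e1
    apply ht1
    have : t = h * (h⁻¹ * t * h) * h⁻¹ := by group
    rw [this, e1]; group
  · show y * (h⁻¹ * t * h) = h⁻¹ * t * h * y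
    have e1 : h * y * h⁻¹ * t = t * (h * y * h⁻¹) := hkey.eq
    calc y * (h⁻¹ * t * h) = h⁻¹ * (h * y * h⁻¹ * t) * h := by group
      _ = h⁻¹ * (t * (h * y * h⁻¹)) * h := by rw [e1]
      _ = _ := by group

end Ctx

theorem mem_zpowers_invol {u w : G} (hu : u * u = 1) (hw : w ∈ zpowers u) : w = 1 ∨ w = u := by
  obtain ⟨k, rfl⟩ := hw
  have hu2 : u ^ (2 : ℤ) = 1 := by
    rw [show (2 : ℤ) = ((2 : ℕ) : ℤ) from rfl, zpow_natCast, sq, hu]
  rcases Int.even_or_odd' k with ⟨m, rfl | rfl⟩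
  · left
    show u ^ (2 * m) = 1
    rw [zpow_mul, hu2, one_zpow]
  · right
    show u ^ (2 * m + 1) = u
    rw [zpow_add, zpow_mul, hu2, one_zpow, one_mul, zpow_one]

namespace Ctx

variable (C : Ctx G p)

include C

/-- The final contradiction from the structure delivered by Brauer-Suzuki-Wall. -/
theorem false_of_bsw (hII : ¬ C.CaseI) (Q₀ D₀ : Subgroup G)
    (h2 : ∀ x ∈ Q₀, x ≠ 1 → centralizer ({x} : Set G) = Q₀)
    (h3 : IsMulCommutative ↥D₀) (h4 : 2 * Nat.card ↥D₀ + 1 = Nat.card ↥Q₀)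
    (h6 : normalizer (Q₀ : Set G) = Q₀ ⊔ D₀)
    (h7 : ∀ X : Subgroup G, X ≤ D₀ → X ≠ ⊥ →
        normalizer (X : Set G) = normalizer (D₀ : Set G) ∧
        ∃ u : G, orderOf u = 2 ∧ u ∉ D₀ ∧ (∀ d ∈ D₀, u * d * u⁻¹ = d⁻¹) ∧
          normalizer (D₀ : Set G) = D₀ ⊔ zpowers u) : False := by
  classical
  haveI := fact_prime C
  have hp3 := C.p_eq_three hII
  have hD : ∀ a ∈ D₀, ∀ b ∈ D₀, a * b = b * a := fun a ha b hb =>
    congrArg Subtype.val (h3.is_comm.comm ⟨a, ha⟩ ⟨b, hb⟩)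
  have hDpos : 0 < Nat.card D₀ := Nat.card_pos
  have hq2 : ¬ 2 ∣ Nat.card Q₀ := by
    rw [← h4]; omega
  -- `p` does not divide `|Q₀|`
  have hqp : ¬ p ∣ Nat.card Q₀ := by
    intro hd
    obtain ⟨y, hy, hyo⟩ := exists_mem_orderOf hd
    have hyP : PElt p y := ⟨1, by rw [pow_one, ← hyo]; exact pow_orderOf_eq_one y⟩
    have hy1 : y ≠ 1 := by
      rintro rfl
      rw [orderOf_one] at hyo
      exact C.hp.one_lt.ne hyo
    obtain ⟨z, hz, hz1, hzc⟩ := C.exists_invol hII hyP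
    have hzmem : z ∈ Q₀ := by
      rw [← h2 y hy hy1, mem_centralizer_singleton_iff]
      exact hzc.eq.symm
    apply hq2
    rw [← orderOf_two hz hz1]
    exact Subgroup.orderOf_dvd_natCard _ hzmem
  have hD1 : D₀ ≠ ⊥ := by
    intro h
    rw [h] at h4
    simp only [Subgroup.card_bot] at h4
    apply hqp
    rw [← h4, hp3]
  have hD2 : ¬ 2 ∣ Nat.card D₀ := by
    intro hd
    obtain ⟨d, hd, hdo⟩ := exists_mem_orderOf (p := 2) hd
    have hdd : d * d = 1 := by
      have := pow_orderOf_eq_one d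
      rwa [hdo, sq] at this
    have hd1 : d ≠ 1 := by
      rintro rfl
      simp at hdo
    have hdN : d ∈ normalizer (Q₀ : Set G) := by
      rw [h6]
      exact (le_sup_right : D₀ ≤ Q₀ ⊔ D₀) hd
    have hbot := C.norm_odd hq2 hqp hdd hd1 hdN
    rw [hbot] at h4
    simp only [Subgroup.card_bot] at h4
    omega
  by_cases hDp : p ∣ Nat.card D₀
  · obtain ⟨y, hy, hyo⟩ := exists_mem_orderOf hDp
    have hyP : PElt p y := ⟨1, by rw [pow_one, ← hyo]; exact pow_orderOf_eq_one y⟩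
    have hy1 : y ≠ 1 := by
      rintro rfl
      rw [orderOf_one] at hyo
      exact C.hp.one_lt.ne hyo
    have hX : zpowers y ≤ D₀ := zpowers_le.mpr hy
    have hXne : zpowers y ≠ ⊥ := by
      intro h
      exact hy1 (zpowers_eq_bot.mp h)
    obtain ⟨hn, u, huo, _, hui, hN⟩ := h7 _ hX hXne
    have huu : u * u = 1 := by
      have := pow_orderOf_eq_one u
      rwa [huo, sq] at this
    obtain ⟨v, hv, hv1, hvc⟩ := C.exists_invol hII hyP
    have hvN : v ∈ normalizer ((zpowers y : Subgroup G) : Set G) := by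
      apply Cfsg.Agent.Lib.Transfer.Frobenius.mem_normalizer_of_conj_mem
      rintro _ ⟨k, rfl⟩
      refine ⟨k, ?_⟩
      show y ^ k = v * y ^ k * v⁻¹
      have : v * y ^ k = y ^ k * v := ((hvc.zpow_left k).symm).eq
      rw [this]; group
    rw [hn, hN] at hvN
    have huN : zpowers u ≤ normalizer (D₀ : Set G) := by
      rw [zpowers_le]
      apply Cfsg.Agent.Lib.Transfer.Frobenius.mem_normalizer_of_conj_mem
      intro d hd
      rw [hui d hd]
      exact D₀.inv_mem hd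
    obtain ⟨d, hd, w, hw, rfl⟩ := (Cfsg.Agent.Lib.Coprime.Coset.mem_sup_iff_of_le_normalizer huN v).mp hvN
    rcases mem_zpowers_invol huu hw with rfl | rfl
    · apply hD2
      rw [← orderOf_two hv hv1]
      simpa using Subgroup.orderOf_dvd_natCard D₀ (x := d * 1) (by simpa using hd)
    · have e1 : (d * w) * y * (d * w)⁻¹ = y⁻¹ := by
        have e2 := hui y hy
        have e3 : d * y⁻¹ = y⁻¹ * d := hD d hd _ (D₀.inv_mem hy)
        calc (d * w) * y * (d * w)⁻¹ = d * (w * y * w⁻¹) * d⁻¹ := by group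
          _ = (d * y⁻¹) * d⁻¹ := by rw [e2]
          _ = y⁻¹ := by rw [e3]; group
      have e2 : (d * w) * y * (d * w)⁻¹ = y := by
        rw [← hvc.eq, mul_inv_cancel_right]
      rw [e2] at e1
      apply hy1
      apply PElt.eq_one_of_sq C.hp2 hyP
      calc y * y = y * y⁻¹ := by
            nth_rw 2 [e1]
        _ = 1 := by group
  · obtain ⟨_, u, huo, _, hui, _⟩ := h7 _ le_rfl hD1
    have huu : u * u = 1 := by
      have := pow_orderOf_eq_one u
      rwa [huo, sq] at this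
    have hu1 : u ≠ 1 := by
      rintro rfl
      simp at huo
    have huN : u ∈ normalizer (D₀ : Set G) := by
      apply Cfsg.Agent.Lib.Transfer.Frobenius.mem_normalizer_of_conj_mem
      intro d hd
      rw [hui d hd]
      exact D₀.inv_mem hd
    exact hD1 (C.norm_odd hD2 hDp huu hu1 huN)

/-- The case where `Q` does not centralize the `p`-elements commuting with its involutions. -/
theorem false_of_not_caseI (hII : ¬ C.CaseI) : False := by
  classical
  haveI := fact_prime C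
  obtain ⟨t, ht, ht1⟩ := C.exists_ne_one
  obtain ⟨s, hs, hs1, hst⟩ := C.exists_two t
  have htt := C.hQe t ht
  have hss := C.hQe s hs
  have hti : t⁻¹ = t := C.Q_inv ht
  have hsi : s⁻¹ = s := C.Q_inv hs
  have hts : t * s = s * t := C.Q_comm ht hs
  set A : Subgroup G := Ap p t with hA
  have hAc : ∀ a ∈ A, a * t = t * a := fun a ha => ((C.mem_Ap ht ht1).mp ha).1.eq
  have hAP : ∀ a ∈ A, PElt p a := fun a ha => ((C.mem_Ap ht ht1).mp ha).2
  have hAcomm : ∀ a ∈ A, ∀ b ∈ A, a * b = b * a := fun a ha b hb => C.Ap_comm ht ht1 ha hb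
  have hAsq : ∀ a ∈ A, a * a = 1 → a = 1 := fun a ha h => PElt.eq_one_of_sq C.hp2 (hAP a ha) h
  have hT : zpowers t ≤ normalizer (A : Set G) := by
    rw [zpowers_le]
    apply Cfsg.Agent.Lib.Transfer.Frobenius.mem_normalizer_of_conj_mem
    intro a ha
    have : t * a * t⁻¹ = a := by rw [← hAc a ha]; simp
    rwa [this]
  set K : Subgroup G := A ⊔ zpowers t with hK
  have hmemK : ∀ y, y ∈ K ↔ ∃ a ∈ A, y = a ∨ y = a * t := by
    intro y
    constructor
    · intro hy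
      obtain ⟨a, ha, b, hb, rfl⟩ := (Cfsg.Agent.Lib.Coprime.Coset.mem_sup_iff_of_le_normalizer hT y).mp hy
      rcases mem_zpowers_invol htt hb with rfl | rfl
      · exact ⟨a, ha, Or.inl (by simp)⟩
      · exact ⟨a, ha, Or.inr rfl⟩
    · rintro ⟨a, ha, rfl | rfl⟩
      · exact (le_sup_left : A ≤ K) ha
      · exact K.mul_mem ((le_sup_left : A ≤ K) ha) ((le_sup_right : zpowers t ≤ K) (mem_zpowers t))
  have hKc : ∀ y ∈ K, ∀ y' ∈ K, y * y' = y' * y := by
    intro y hy y' hy'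
    obtain ⟨a, ha, h1⟩ := (hmemK y).mp hy
    obtain ⟨b, hb, h2⟩ := (hmemK y').mp hy'
    have hab : Commute a b := hAcomm a ha b hb
    have hat : Commute a t := hAc a ha
    have hbt : Commute b t := hAc b hb
    rcases h1 with rfl | rfl <;> rcases h2 with rfl | rfl
    · exact hab
    · exact hab.mul_right hat
    · exact hab.mul_left hbt.symm
    · exact (hab.mul_right hat).mul_left (hbt.symm.mul_right (Commute.refl t))
  have hKab : IsMulCommutative ↥K :=
    ⟨⟨fun a b => Subtype.ext (hKc a a.2 b b.2)⟩⟩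
  have hKH : K ≤ centralizer ({t} : Set G) := by
    intro y hy
    rw [mem_centralizer_singleton_iff]
    exact hKc y hy t ((le_sup_right : zpowers t ≤ K) (mem_zpowers t))
  have htK : t ∈ K := (le_sup_right : zpowers t ≤ K) (mem_zpowers t)
  have hsH : s ∈ centralizer ({t} : Set G) := by
    rw [mem_centralizer_singleton_iff]
    exact hts.symm
  have hsK : s ∉ K := by
    intro h
    obtain ⟨a, ha, h1 | h1⟩ := (hmemK s).mp h
    · subst h1
      exact hs1 (hAsq _ ha hss)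
    · have hat : a ∈ C.Q := by
        have := C.Q.mul_mem hs ht
        rwa [h1, mul_assoc, htt, mul_one] at this
      have ha1 : a = 1 := C.eq_one_of_mem_Q hat (hAP a ha)
      apply hst
      rw [h1, ha1, one_mul]
  have hH : K ⊔ zpowers s = centralizer ({t} : Set G) := by
    apply le_antisymm
    · exact sup_le hKH (zpowers_le.mpr hsH)
    · intro y hy
      rw [mem_centralizer_singleton_iff] at hy
      obtain ⟨a, ha, e, he, rfl⟩ := C.comp_C ht ht1 (y := y) hy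
      have haK : a ∈ K := (le_sup_left : A ≤ K) ha
      have hK' : K ≤ K ⊔ zpowers s := le_sup_left
      have hs' : s ∈ K ⊔ zpowers s := (le_sup_right : zpowers s ≤ K ⊔ zpowers s) (mem_zpowers s)
      rcases C.Q_cases (C.four hII) ht ht1 hs hs1 hst he with h1 | h1 | h1 | h1 <;> rw [h1]
      · simpa using hK' haK
      · exact hK' (K.mul_mem haK htK)
      · exact (K ⊔ zpowers s).mul_mem (hK' haK) hs'
      · rw [← mul_assoc]
        exact (K ⊔ zpowers s).mul_mem (hK' (K.mul_mem haK htK)) hs'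
  have hAinv : ∀ a ∈ A, s * a * s⁻¹ = a⁻¹ := fun a ha => C.inverts hII ht ht1 hs hs1 hst ha
  have hinv : ∀ y ∈ K, s * y * s⁻¹ = y⁻¹ := by
    intro y hy
    obtain ⟨a, ha, h0 | h0⟩ := (hmemK y).mp hy <;> rw [h0]
    · exact hAinv a ha
    · have h1 := hAinv a ha
      have e1 : s * t * s⁻¹ = t := by rw [← hts]; simp
      have e2 : t * a⁻¹ = a⁻¹ * t := by
        have := hAc a⁻¹ (A.inv_mem ha)
        exact this.symm
      calc s * (a * t) * s⁻¹ = (s * a * s⁻¹) * (s * t * s⁻¹) := by group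
        _ = a⁻¹ * t := by rw [h1, e1]
        _ = t * a⁻¹ := e2.symm
        _ = (a * t)⁻¹ := by rw [mul_inv_rev, hti]
  have hCK : K ⊓ centralizer ({s} : Set G) = zpowers t := by
    apply le_antisymm
    · intro y hy
      obtain ⟨hy1, hy2⟩ := Subgroup.mem_inf.mp hy
      rw [mem_centralizer_singleton_iff] at hy2
      have hy3 := hinv y hy1
      have hy4 : s * y * s⁻¹ = y := by
        rw [← hy2]; simp
      rw [hy4] at hy3
      obtain ⟨a, ha, h0 | h0⟩ := (hmemK y).mp hy1 <;> rw [h0] at hy3 ⊢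
      · have : a = 1 := hAsq a ha (by
          calc a * a = a * a⁻¹ := congrArg (fun w => a * w) hy3
            _ = 1 := by group)
        rw [this]
        exact one_mem _
      · have : a = 1 := by
          apply hAsq a ha
          have e1 : a * t * (a * t) = 1 := by
            calc a * t * (a * t) = a * t * (a * t)⁻¹ := congrArg (fun w => a * t * w) hy3
              _ = 1 := by group
          calc a * a = a * a * (t * t) := by rw [htt, mul_one]
            _ = a * (a * t) * t := by group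
            _ = a * (t * a) * t := by rw [hAc a ha]
            _ = a * t * (a * t) := by group
            _ = 1 := e1
        rw [this, one_mul]
        exact mem_zpowers t
    · rw [zpowers_le]
      refine Subgroup.mem_inf.mpr ⟨htK, ?_⟩
      rw [mem_centralizer_singleton_iff]
      exact hts
  have hsq : ∀ y ∈ K, ∃ a ∈ A, y * y = a * a ∧ (y = a ∨ y = a * t) := by
    intro y hy
    obtain ⟨a, ha, h0 | h0⟩ := (hmemK y).mp hy <;> rw [h0]
    · exact ⟨a, ha, rfl, Or.inl rfl⟩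
    · refine ⟨a, ha, ?_, Or.inr rfl⟩
      calc a * t * (a * t) = a * (t * a) * t := by group
        _ = a * (a * t) * t := by rw [hAc a ha]
        _ = a * a * (t * t) := by group
        _ = a * a := by rw [htt, mul_one]
  have hTI : ∀ g : G, g ∉ centralizer ({t} : Set G) → K ⊓ K.map (MulAut.conj g).toMonoidHom = ⊥ := by
    intro g hg
    rw [eq_bot_iff]
    rintro z ⟨hz1, hz2⟩
    rw [Subgroup.mem_bot]
    have hz2' : g⁻¹ * z * g ∈ K := mem_map_conj.mp hz2
    obtain ⟨a, ha, hza, hz⟩ := hsq z hz1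
    obtain ⟨b, hb, hzb, hz'⟩ := hsq _ hz2'
    have hgt : g * t * g⁻¹ ≠ t := by
      intro h
      apply hg
      rw [mem_centralizer_singleton_iff]
      exact mul_inv_eq_iff_eq_mul.mp h
    have ht'1 : g * t * g⁻¹ ≠ 1 := by
      intro e
      apply ht1
      have : t = g⁻¹ * (g * t * g⁻¹) * g := by group
      rw [this, e]; group
    have ht't' : (g * t * g⁻¹) * (g * t * g⁻¹) = 1 := by
      calc (g * t * g⁻¹) * (g * t * g⁻¹) = g * (t * t) * g⁻¹ := by group
        _ = 1 := by rw [htt]; group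
    have hconjsq : g⁻¹ * (a * a) * g = b * b := by
      rw [← hzb, ← hza]; group
    by_cases hw : a * a = 1
    · have ha1 := hAsq a ha hw
      rcases hz with rfl | hz
      · exact ha1
      · exfalso
        rw [ha1, one_mul] at hz
        rw [hw] at hconjsq
        have hb1 : b = 1 := hAsq b hb (by rw [← hconjsq]; group)
        rcases hz' with h | h
        · rw [hz, hb1] at h
          apply ht1
          have : t = g * (g⁻¹ * t * g) * g⁻¹ := by group
          rw [this, h]; group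
        · rw [hz, hb1, one_mul] at h
          apply hg
          rw [mem_centralizer_singleton_iff]
          have h2 : t * g = g * t := by
            nth_rw 2 [← h]
            group
          exact h2.symm
    · exfalso
      have hwA : a * a ∈ A := A.mul_mem ha ha
      have hcomm : Commute (g * t * g⁻¹) (a * a) := by
        show (g * t * g⁻¹) * (a * a) = (a * a) * (g * t * g⁻¹)
        have e1 : g⁻¹ * (a * a) * g * t = t * (g⁻¹ * (a * a) * g) := by
          rw [hconjsq]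
          exact hAc _ (A.mul_mem hb hb)
        calc (g * t * g⁻¹) * (a * a) = g * (t * (g⁻¹ * (a * a) * g)) * g⁻¹ := by group
          _ = g * (g⁻¹ * (a * a) * g * t) * g⁻¹ := by rw [e1]
          _ = _ := by group
      obtain ⟨N₀, _, hN, hdec⟩ := C.cent_struct hII ht ht1 hwA hw
      obtain ⟨c, hc, h⟩ := hdec _ hcomm
      obtain ⟨hc1, hc2⟩ := (hN c).mp hc
      have hct : Commute c t := C.pelt_comm_t hII ht ht1 hwA hw hc2 hc1
      rcases h with h | h
      · rw [h] at ht't'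
        have := PElt.eq_one_of_sq C.hp2 hc2 ht't'
        rw [this] at h
        exact ht'1 h
      · have h2 : c * c = 1 := by
          rw [h] at ht't'
          calc c * c = c * c * (t * t) := by rw [htt, mul_one]
            _ = c * (c * t) * t := by group
            _ = c * (t * c) * t := by rw [hct.eq]
            _ = c * t * (c * t) := by group
            _ = 1 := ht't'
        have := PElt.eq_one_of_sq C.hp2 hc2 h2
        rw [this, one_mul] at h
        exact hgt h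
  have hcj : ∀ z : G, orderOf z = 2 → IsConj z t := by
    intro z hz
    have hzz : z * z = 1 := by
      have := pow_orderOf_eq_one z
      rwa [hz, sq] at this
    have hz1 : z ≠ 1 := by
      rintro rfl
      simp at hz
    obtain ⟨h, hh⟩ := C.exists_conj_mem_Q hzz
    have hh1 : h * z * h⁻¹ ≠ 1 := by
      intro e
      apply hz1
      have : z = h⁻¹ * (h * z * h⁻¹) * h := by group
      rw [this, e]; group
    obtain ⟨i, hi⟩ := C.htr _ hh t ht hh1 ht1
    rw [isConj_iff]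
    exact ⟨C.x ^ i * h, by rw [← hi]; group⟩
  obtain ⟨Q₀, D₀, _, h2, h3, h4, _, h6, h7⟩ := Cfsg.Agent.S3282.result t (orderOf_two htt ht1) K hKab hKH
    htK s (orderOf_two hss hs1) hsH hsK hH hCK hinv hTI
    (fun x y hx hy => (hcj x hx).trans (hcj y hy).symm)
  exact C.false_of_bsw hII Q₀ D₀ h2 h3 h4 h6 h7

end Ctx

end Cfsg.Agent.Lib.Blocks.MixP
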