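import Mathlib
import Cfsg.Agent.Lib.Blocks.MixP.CaseII

/-!
# The theorem: primes dividing the order when `p` divides all mixed proper subgroups
-/

set_option autoImplicit false

namespace Cfsg.Agent.Lib.Blocks.MixP

open Subgroup

universe u

variable {G : Type u} [Group G] [Finite G]

/-- Part A: there is no normal `q`-complement. -/
theorem not_complement {p q r : ℕ} (hp : p.Prime) (hq : q.Prime) (hpq : p ≠ q)
    (hpG : p ∣ Nat.card G) (hqG : q ∣ Nat.card G)
    (hmix : ∀ H : Subgroup G, H ≠ ⊤ → ¬ IsPGroup q H → q ∣ Nat.card H → p ∣ Nat.card H)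
    (hr : r.Prime) (hrp : r ≠ p) (hrq : r ≠ q) (hrG : r ∣ Nat.card G) :
    ¬ Cfsg.HasNormalPComplement q G := by
  classical
  haveI := Fact.mk hp
  haveI := Fact.mk hq
  haveI := Fact.mk hr
  intro hc
  obtain ⟨N, hn, h1, h2⟩ := Cfsg.Agent.Lib.Transfer.Basic.hasNormalPComplement_iff.mp hc
  have hqN : ¬ q ∣ Nat.card N := (Nat.Prime.coprime_iff_not_dvd hq).mp h1.symm
  have hcard : Nat.card N * N.index = Nat.card G := Subgroup.card_mul_index N
  have hrN : r ∣ Nat.card N := by
    rw [← hcard] at hrG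
    rcases (Nat.Prime.dvd_mul hr).mp hrG with h | h
    · exact h
    · exfalso
      obtain ⟨k, hk⟩ := (IsPGroup.iff_card).mp h2
      rw [Subgroup.index_eq_card, hk] at h
      exact hrq ((Nat.prime_dvd_prime_iff_eq hr hq).mp (hr.dvd_of_dvd_pow h))
  obtain ⟨R⟩ : Nonempty (Sylow r N) := inferInstance
  set R' : Subgroup G := (R : Subgroup N).map N.subtype with hR'
  have hcardR' : Nat.card R' = Nat.card (R : Subgroup N) :=
    Subgroup.card_map_of_injective N.subtype_injective
  have hrR : r ∣ Nat.card R' := by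
    rw [hcardR']
    exact R.dvd_card_of_dvd_card hrN
  have hR'P : IsPGroup r R' := R.2.map N.subtype
  set T : Subgroup G := normalizer (R' : Set G) with hT
  have hsup : T ⊔ N = ⊤ := Sylow.normalizer_sup_eq_top R
  have hqT : q ∣ Nat.card T := by
    have hle : T ≤ normalizer (N : Set G) := by
      rw [Subgroup.normalizer_eq_top]
      exact le_top
    have h3 := card_sup_of_le_normalizer hle
    rw [sup_comm, hsup, Subgroup.card_top] at h3
    have h4 : q ∣ Nat.card N * Nat.card T := by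
      rw [← h3]
      exact hqG.trans (dvd_mul_right _ _)
    rcases (Nat.Prime.dvd_mul hq).mp h4 with h | h
    · exact absurd h hqN
    · exact h
  obtain ⟨y, hy, hyo⟩ := exists_mem_orderOf hqT
  have hzT : zpowers y ≤ normalizer (R' : Set G) := zpowers_le.mpr hy
  have hpR : ¬ p ∣ Nat.card R' := by
    intro h
    obtain ⟨k, hk⟩ := (IsPGroup.iff_card).mp hR'P
    rw [hk] at h
    exact hrp ((Nat.prime_dvd_prime_iff_eq hp hr).mp (hp.dvd_of_dvd_pow h)).symm
  have hpz : ¬ p ∣ Nat.card (zpowers y) := by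
    rw [Nat.card_zpowers, hyo]
    intro h
    exact hpq ((Nat.prime_dvd_prime_iff_eq hp hq).mp h)
  have hH := not_dvd_card_sup hzT hpR hpz
  refine hH (hmix _ ?_ ?_ ?_)
  · intro htop
    rw [htop, Subgroup.card_top] at hH
    exact hH hpG
  · intro hP
    obtain ⟨k, hk⟩ := (IsPGroup.iff_card).mp hP
    have h5 : r ∣ Nat.card (R' ⊔ zpowers y : Subgroup G) :=
      hrR.trans (Subgroup.card_dvd_of_le le_sup_left)
    rw [hk] at h5
    exact hrq ((Nat.prime_dvd_prime_iff_eq hr hq).mp (hr.dvd_of_dvd_pow h5))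
  · rw [← hyo]
    exact Subgroup.orderOf_dvd_natCard _ ((le_sup_right : zpowers y ≤ R' ⊔ zpowers y) (mem_zpowers y))

/-- Part B: the `p`-element moving a `q`-subgroup. -/
theorem exists_move {p q : ℕ} (hp : p.Prime) (hq : q.Prime) (hpq : p ≠ q)
    (hpG : p ∣ Nat.card G)
    (hmix : ∀ H : Subgroup G, H ≠ ⊤ → ¬ IsPGroup q H → q ∣ Nat.card H → p ∣ Nat.card H)
    (hc : ¬ Cfsg.HasNormalPComplement q G) :
    ∃ (U : Subgroup G) (a u : G), IsPGroup q U ∧ PElt p a ∧ (∀ e ∈ U, a * e * a⁻¹ ∈ U) ∧ u ∈ U ∧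
      a * u * a⁻¹ ≠ u := by
  classical
  haveI := Fact.mk hp
  haveI := Fact.mk hq
  have hF : ¬ Cfsg.Agent.Lib.Transfer.Frobenius.FrobeniusHyp q G := fun h =>
    hc (Cfsg.Agent.Lib.Transfer.Frobenius.hasNormalPComplement_of_hyp h)
  unfold Cfsg.Agent.Lib.Transfer.Frobenius.FrobeniusHyp at hF
  push Not at hF
  obtain ⟨U, hU, g, hgN, hgc, hgC⟩ := hF
  obtain ⟨a, b, rfl, hab, ha, hb, ⟨k, hk⟩, hbc⟩ :=
    Cfsg.Agent.Lib.Transfer.Basic.exists_pPart_decomp (p := p) g
  have haN : a ∈ normalizer (U : Set G) := (zpowers_le.mpr hgN) ha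
  have hbN : b ∈ normalizer (U : Set G) := (zpowers_le.mpr hgN) hb
  have hbC : b ∈ centralizer (U : Set G) := by
    by_contra hbC
    have hpU : ¬ p ∣ Nat.card U := by
      intro h
      obtain ⟨j, hj⟩ := (IsPGroup.iff_card).mp hU
      rw [hj] at h
      exact hpq ((Nat.prime_dvd_prime_iff_eq hp hq).mp (hp.dvd_of_dvd_pow h))
    have hpb : ¬ p ∣ Nat.card (zpowers b) := by
      rw [Nat.card_zpowers]
      exact (Nat.Prime.coprime_iff_not_dvd hp).mp hbc.symm
    have hH := not_dvd_card_sup (zpowers_le.mpr hbN) hpU hpb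
    have hU1 : U ≠ ⊥ := by
      rintro rfl
      apply hbC
      rw [mem_centralizer_iff]
      intro h hh
      rw [Subgroup.coe_bot, Set.mem_singleton_iff] at hh
      simp [hh]
    have hqU : q ∣ Nat.card U := by
      obtain ⟨j, hj⟩ := (IsPGroup.iff_card).mp hU
      rcases Nat.eq_zero_or_pos j with rfl | hj0
      · exfalso
        apply hU1
        exact Subgroup.eq_bot_of_card_eq _ (by simpa using hj)
      · rw [hj]; exact dvd_pow_self q hj0.ne'
    refine hH (hmix _ ?_ ?_ ?_)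
    · intro htop
      rw [htop, Subgroup.card_top] at hH
      exact hH hpG
    · intro hP
      obtain ⟨j, hj⟩ := (IsPGroup.iff_card).mp hP
      have hb1 : orderOf b ∣ q ^ j := by
        rw [← hj]
        exact Subgroup.orderOf_dvd_natCard _ ((le_sup_right : zpowers b ≤ U ⊔ zpowers b) (mem_zpowers b))
      have hbq : Nat.Coprime (orderOf b) q := by
        have : orderOf b ∣ orderOf (a * b) := orderOf_dvd_of_mem_zpowers hb
        exact Nat.Coprime.coprime_dvd_left this hgc
      have hb2 : orderOf b = 1 := Nat.eq_one_of_dvd_coprimes (hbq.pow_right j) dvd_rfl hb1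
      have hb3 : b = 1 := orderOf_eq_one_iff.mp hb2
      apply hbC
      rw [hb3]
      exact one_mem _
    · exact hqU.trans (Subgroup.card_dvd_of_le le_sup_left)
  have haC : a ∉ centralizer (U : Set G) := by
    intro h
    exact hgC (mul_mem h hbC)
  rw [mem_centralizer_iff] at haC
  push Not at haC
  obtain ⟨u, hu, hne⟩ := haC
  refine ⟨U, a, u, hU, ⟨k, by rw [← hk]; exact pow_orderOf_eq_one a⟩,
    fun e he => conj_mem_of_mem_normalizer haN he, hu, ?_⟩
  intro h
  apply hne
  rw [mul_inv_eq_iff_eq_mul] at h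
  exact h.symm

/-- The orbit of a moved point has at least `p` points and can fill the whole of `U#`. -/
theorem orbit_fill {p : ℕ} (hp : p.Prime) {U : Subgroup G} {a u : G} (ha : PElt p a)
    (haU : ∀ e ∈ U, a * e * a⁻¹ ∈ U) (hu : u ∈ U) (hmove : a * u * a⁻¹ ≠ u) :
    p + 1 ≤ Nat.card U ∧ (Nat.card U = p + 1 → ∀ v ∈ U, v ≠ 1 → ∃ i : ℕ, a ^ i * u * (a ^ i)⁻¹ = v) := by
  classical
  haveI := Fact.mk hp
  set f : G → G := fun w => a * w * a⁻¹ with hf
  have hit : ∀ (i : ℕ) (w : G), f^[i] w = a ^ i * w * (a ^ i)⁻¹ := by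
    intro i w
    induction i with
    | zero => simp
    | succ i ih =>
      rw [Function.iterate_succ_apply', ih, pow_succ']
      simp only [hf]
      group
  obtain ⟨k, hk⟩ := ha
  have hper : Function.IsPeriodicPt f (p ^ k) u := by
    show f^[p ^ k] u = u
    rw [hit, hk]
    simp
  set per := Function.minimalPeriod f u with hperdef
  have hdvd : per ∣ p ^ k := hper.minimalPeriod_dvd
  have hne1 : per ≠ 1 := by
    intro h
    apply hmove
    exact (Function.minimalPeriod_eq_one_iff_isFixedPt.mp h)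
  have hple : p ≤ per := by
    obtain ⟨j, _, hj⟩ := (Nat.dvd_prime_pow hp).mp hdvd
    rw [hj]
    have hj0 : j ≠ 0 := by
      rintro rfl
      exact hne1 (by simpa using hj)
    exact (dvd_pow_self p hj0 |> Nat.le_of_dvd (pow_pos hp.pos j))
  have hu1 : u ≠ 1 := by
    rintro rfl
    simp at hmove
  have hinj : Set.InjOn (fun i => f^[i] u) (Set.Iio per) :=
    Function.iterate_injOn_Iio_minimalPeriod
  set I : Set G := (fun i => f^[i] u) '' Set.Iio per with hI
  have hIcard : I.ncard = per := by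
    rw [hI, Set.InjOn.ncard_image hinj, ← Finset.coe_range, Set.ncard_coe_finset, Finset.card_range]
  set S : Set G := (U : Set G) \ {1} with hS
  have hpow : ∀ i : ℕ, ∀ e ∈ U, a ^ i * e * (a ^ i)⁻¹ ∈ U := by
    intro i
    induction i with
    | zero => intro e he; simpa using he
    | succ i ih =>
      intro e he
      have := ih _ (haU e he)
      rw [pow_succ]
      have e1 : a ^ i * a * e * (a ^ i * a)⁻¹ = a ^ i * (a * e * a⁻¹) * (a ^ i)⁻¹ := by group
      rwa [e1]
  have hIS : I ⊆ S := by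
    rintro _ ⟨i, _, rfl⟩
    simp only
    rw [hit]
    refine ⟨hpow i u hu, ?_⟩
    intro h
    apply hu1
    have h2 : a ^ i * u * (a ^ i)⁻¹ = 1 := h
    have : u = (a ^ i)⁻¹ * (a ^ i * u * (a ^ i)⁻¹) * a ^ i := by group
    rw [this, h2]; group
  have hScard : S.ncard = Nat.card U - 1 := by
    rw [hS, Set.ncard_sdiff_singleton_of_mem (by exact U.one_mem), ← Nat.card_coe_set_eq]
    rfl
  have hpos : 0 < Nat.card U := Nat.card_pos
  have hle := Set.ncard_le_ncard hIS (Set.toFinite _)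
  rw [hIcard, hScard] at hle
  refine ⟨by omega, ?_⟩
  intro hcU v hv hv1
  have heq : I = S := Set.eq_of_subset_of_ncard_le hIS (by omega) (Set.toFinite _)
  have hvS : v ∈ S := ⟨hv, hv1⟩
  rw [← heq] at hvS
  obtain ⟨i, _, hi⟩ := hvS
  refine ⟨i, ?_⟩
  rw [← hi]
  simp only
  rw [hit]

/-- The main theorem, by strong induction on the order. -/
theorem main_theorem (p q : ℕ) (hp : p.Prime) (hq : q.Prime) (hpq : p ≠ q) (hp2 : p ≠ 2) :
    ∀ n : ℕ, ∀ (G : Type u) [Group G] [Finite G], Nat.card G = n → p ∣ Nat.card G → q ∣ Nat.card G →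
      (∀ H : Subgroup G, H ≠ ⊤ → ¬ IsPGroup q H → q ∣ Nat.card H → p ∣ Nat.card H) →
      (q ^ (Nat.card G).factorization q - 1 < p ∨
        (p = q ^ (Nat.card G).factorization q - 1 ∧ ∀ P : Sylow p G, IsMulCommutative P)) →
      ∀ r : ℕ, r.Prime → r ∣ Nat.card G → r = p ∨ r = q := by
  intro n
  induction n using Nat.strong_induction_on with
  | _ n ih =>
  intro G _ _ hn hpG hqG hmix hlarge r hr hrG
  classical
  haveI := Fact.mk hp
  haveI := Fact.mk hq
  by_contra hne
  push Not at hne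
  obtain ⟨hrp, hrq⟩ := hne
  have hc := not_complement hp hq hpq hpG hqG hmix hr hrp hrq hrG
  obtain ⟨U, a, u, hU, ha, haU, hu, hmove⟩ := exists_move hp hq hpq hpG hmix hc
  obtain ⟨h1, h2⟩ := orbit_fill hp ha haU hu hmove
  obtain ⟨A, hA⟩ : ∃ A, A = (Nat.card G).factorization q := ⟨_, rfl⟩
  rw [← hA] at hlarge
  obtain ⟨b, hb⟩ := (IsPGroup.iff_card).mp hU
  have hGpos : Nat.card G ≠ 0 := Nat.card_pos.ne'
  have hUG : q ^ b ∣ Nat.card G := hb ▸ Subgroup.card_subgroup_dvd_card U
  have hbA : b ≤ A := by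
    rw [hA]
    exact (hq.pow_dvd_iff_le_factorization hGpos).mp hUG
  have hqb : q ^ b ≤ q ^ A := Nat.pow_le_pow_right hq.pos hbA
  have hqA : 0 < q ^ A := pow_pos hq.pos A
  have hEq : p = q ^ A - 1 ∧ ∀ P : Sylow p G, IsMulCommutative P := by
    rcases hlarge with h | h
    · exfalso
      rw [hb] at h1
      omega
    · exact h
  obtain ⟨hpA, hSyl⟩ := hEq
  have hqA' : q ^ A = p + 1 := by omega
  have hUc : Nat.card U = p + 1 := by
    rw [hb] at h1 ⊢
    omega
  have hq2 : q = 2 := by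
    have h3 : 2 ∣ q ^ A := by
      rw [hqA']
      exact (hp.odd_of_ne_two hp2).add_one.two_dvd
    exact ((Nat.prime_dvd_prime_iff_eq Nat.prime_two hq).mp (Nat.prime_two.dvd_of_dvd_pow h3)).symm
  subst hq2
  have hfill := h2 hUc
  have hu1 : u ≠ 1 := by
    rintro rfl
    simp at hmove
  have htr : ∀ v ∈ U, ∀ w ∈ U, v ≠ 1 → w ≠ 1 → ∃ i : ℕ, a ^ i * v * (a ^ i)⁻¹ = w := by
    intro v hv w hw hv1 hw1
    obtain ⟨i, rfl⟩ := hfill v hv hv1
    obtain ⟨j, rfl⟩ := hfill w hw hw1
    obtain ⟨k, hk⟩ := ha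
    refine ⟨j + i * (p ^ k - 1), ?_⟩
    have hpk : 1 ≤ p ^ k := Nat.one_le_pow _ _ hp.pos
    have e1 : a ^ (j + i * (p ^ k - 1)) * a ^ i = a ^ j := by
      rw [← pow_add]
      have e2 : j + i * (p ^ k - 1) + i = j + p ^ k * i := by
        obtain ⟨m, hm⟩ : ∃ m, p ^ k = m + 1 := ⟨p ^ k - 1, by omega⟩
        rw [hm]
        simp only [Nat.add_sub_cancel]
        ring
      rw [e2, pow_add, pow_mul, hk, one_pow, mul_one]
    calc a ^ (j + i * (p ^ k - 1)) * (a ^ i * u * (a ^ i)⁻¹) * (a ^ (j + i * (p ^ k - 1)))⁻¹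
        = (a ^ (j + i * (p ^ k - 1)) * a ^ i) * u * (a ^ (j + i * (p ^ k - 1)) * a ^ i)⁻¹ := by group
      _ = _ := by rw [e1]
  have h2U : 2 ∣ Nat.card U := by
    rw [hUc]
    exact (hp.odd_of_ne_two hp2).add_one.two_dvd
  have hQe : ∀ e ∈ U, e * e = 1 := by
    haveI : Fact (Nat.Prime 2) := ⟨Nat.prime_two⟩
    obtain ⟨z, hz, hzo⟩ := exists_mem_orderOf h2U
    have hzz : z * z = 1 := by
      have := pow_orderOf_eq_one z
      rwa [hzo, sq] at this
    have hz1 : z ≠ 1 := by
      rintro rfl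
      simp at hzo
    intro e he
    by_cases he1 : e = 1
    · simp [he1]
    · obtain ⟨i, rfl⟩ := htr z hz e he hz1 he1
      calc a ^ i * z * (a ^ i)⁻¹ * (a ^ i * z * (a ^ i)⁻¹) = a ^ i * (z * z) * (a ^ i)⁻¹ := by group
        _ = 1 := by rw [hzz]; group
  have hab : ∀ B : Subgroup G, IsPGroup p B → ∀ c ∈ B, ∀ d ∈ B, c * d = d * c := by
    intro B hB c hc d hd
    obtain ⟨P, hP⟩ := hB.exists_le_sylow
    have := (hSyl P).is_comm.comm ⟨c, hP hc⟩ ⟨d, hP hd⟩
    exact congrArg Subtype.val this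
  have hQS : ¬ 2 ∣ U.index := by
    intro h3
    have h4 : Nat.card U * U.index = Nat.card G := Subgroup.card_mul_index U
    rw [hUc, ← hqA'] at h4
    have h5 : 2 ^ (A + 1) ∣ Nat.card G := by
      rw [← h4, pow_succ]
      exact mul_dvd_mul_left _ h3
    rw [hA] at h5
    exact Nat.pow_succ_factorization_not_dvd hGpos Nat.prime_two h5
  have hIH : ∀ H : Subgroup G, H ≠ ⊤ → U ≤ H → p ∣ Nat.card H →
      ∀ l : ℕ, l.Prime → l ∣ Nat.card H → l = 2 ∨ l = p := by
    intro H hH hUH hpH l hl hlH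
    have hdvdH : Nat.card H ∣ Nat.card G := Subgroup.card_subgroup_dvd_card H
    have hlt : Nat.card H < n := by
      rw [← hn]
      refine lt_of_le_of_ne (Nat.le_of_dvd Nat.card_pos hdvdH) ?_
      intro he
      exact hH (Subgroup.eq_top_of_card_eq H he)
    have hfact : (Nat.card H).factorization 2 = A := by
      apply le_antisymm
      · rw [hA]
        exact (Nat.factorization_le_iff_dvd Nat.card_pos.ne' hGpos).mpr hdvdH 2
      · apply (Nat.prime_two.pow_dvd_iff_le_factorization Nat.card_pos.ne').mp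
        rw [hqA', ← hUc]
        exact Subgroup.card_dvd_of_le hUH
    have key := ih (Nat.card H) hlt ↥H rfl hpH (h2U.trans (Subgroup.card_dvd_of_le hUH)) ?_ ?_ l hl hlH
    · exact key.symm
    · intro K hK hK2 hK3
      have hcard : Nat.card (K.map H.subtype) = Nat.card K :=
        Subgroup.card_map_of_injective H.subtype_injective
      have hh := hmix (K.map H.subtype) ?_ ?_ (hcard ▸ hK3)
      · rwa [hcard] at hh
      · intro htop
        apply hH
        rw [eq_top_iff, ← htop]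
        exact Subgroup.map_subtype_le K
      · intro hP
        apply hK2
        obtain ⟨c, hc⟩ := (IsPGroup.iff_card).mp hP
        rw [hcard] at hc
        exact IsPGroup.of_card hc
    · right
      rw [hfact]
      refine ⟨hpA, ?_⟩
      intro P
      refine ⟨⟨fun c d => Subtype.ext (Subtype.ext ?_)⟩⟩
      have hP : IsPGroup p ((P : Subgroup H).map H.subtype) := P.2.map H.subtype
      exact hab _ hP c.1.1 ⟨c.1, c.2, rfl⟩ d.1.1 ⟨d.1, d.2, rfl⟩
  let C : Ctx G p :=
    { hp := hp, hp2 := hp2, hpG := hpG, hF := hmix, hab := hab, Q := U, hQ2 := hU, hQS := hQS,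
      hQe := hQe, hQc := hUc, x := a, hxp := ha, hxN := haU, htr := htr, r := r, hr := hr,
      hr2 := hrq, hrp := hrp, hrG := hrG, IH := hIH }
  by_cases hI : C.CaseI
  · exact C.false_of_caseI hI
  · exact C.false_of_not_caseI hI

end Cfsg.Agent.Lib.Blocks.MixP
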